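import Cfsg.Agent.Lib.Classical.DecompMax

set_option autoImplicit false
set_option linter.unusedSectionVars false

/-!
Overgroups of the stabiliser of a decomposition into two planes in `SL_4`.
-/

namespace CfsgLib.Classical.SLFour.Blocks

open Matrix CfsgLib.Classical.SLMon CfsgLib.Classical.LinBlocks
open scoped MatrixGroups

variable {κ μ F : Type*} [Fintype κ] [DecidableEq κ] [Fintype μ] [DecidableEq μ] [Field F]
variable {K : Subgroup (SpecialLinearGroup (κ × μ) F)}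

theorem exists_root (hμ : Nontrivial μ) (hK : bstab (F := F) (κ := κ) (μ := μ) ⊆ K)
    (hex : ∃ c : F, c ≠ 0 ∧ c * c ≠ 1)
    {u ψ : κ × μ → F} (h : All K u ψ) (hψ : ψ ≠ 0) {a a' : κ × μ} (ha : u a ≠ 0) (ha' : u a' ≠ 0)
    (haa : a.1 ≠ a'.1) :
    ∃ p r : κ × μ, p.1 ≠ r.1 ∧ All K (Pi.single p 1) (Pi.single r 1) := by
  by_cases hA : ∃ b, u b ≠ 0 ∧ ∀ c : κ × μ, c.1 = b.1 → ψ c = 0
  · obtain ⟨b, hb, hz⟩ := hA
    exact root_of_zero_block hμ hK h hψ hb hz
  push Not at hA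
  -- a functional on one block, killing `u`
  have fin : ∀ χ : κ × μ → F, ∀ i : κ, (∀ c, χ c ≠ 0 → c.1 = i) → χ ≠ 0 → All K u χ →
      ∃ p r : κ × μ, p.1 ≠ r.1 ∧ All K (Pi.single p 1) (Pi.single r 1) := by
    intro χ i hχ hχ0 hA'
    by_cases e : a.1 = i
    · refine root_of_zero_block hμ hK hA' hχ0 ha' fun c hc => ?_
      by_contra h0
      exact haa (by rw [e, ← hc, hχ c h0])
    · refine root_of_zero_block hμ hK hA' hχ0 ha fun c hc => ?_
      by_contra h0
      exact e (hc ▸ hχ c h0)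
  by_cases hC : ∃ b, u b ≠ 0 ∧ ψ ⬝ᵥ blk b.1 u ≠ 0
  · obtain ⟨b, hb, hp⟩ := hC
    obtain ⟨x', hx'⟩ := exists_ne b.2
    set b' : κ × μ := (b.1, x')
    have hbb : b' ≠ b := fun e => hx' (congrArg Prod.snd e)
    set χ : κ × μ → F := u b • Pi.single b' 1 - u b' • Pi.single b 1
    have hχs : ∀ c, χ c ≠ 0 → c.1 = b.1 := by
      intro c hc
      by_contra e
      apply hc
      have e1 : c ≠ b' := fun h => e (by rw [h])
      have e2 : c ≠ b := fun h => e (by rw [h])
      simp [χ, e1, e2]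
    have hχu : χ ⬝ᵥ u = 0 := by
      simp [χ, sub_dotProduct, smul_dotProduct, mul_comm]
    have hχb : χ ⬝ᵥ blk b.1 u = 0 := by
      rw [← blk_dot_comm]
      refine Eq.trans ?_ hχu
      congr 1
      funext c
      by_cases e : c.1 = b.1
      · simp [blk, e]
      · simp only [blk, if_neg e]
        by_contra hc
        exact e (hχs c (Ne.symm hc))
    have hχ0 : χ ≠ 0 := fun e => hb (by simpa [χ, hbb.symm, hbb] using congrFun e b')
    refine fin χ b.1 hχs hχ0 ?_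
    have h1 : All K u (ψ - (ψ ⬝ᵥ blk b.1 u) • χ) :=
      h.conj (Tv_mem hK b.1 blk_supp hχs hχb)
        (by simp [Tv, R_mulVec, hχu])
        (by simp [Tv, vecMul_R, sub_dotProduct, smul_dotProduct, hχb])
    have h2 := (h.sub_right h1).smul_right (-(ψ ⬝ᵥ blk b.1 u)⁻¹)
    rwa [sub_sub_cancel_left, smul_neg, neg_smul, neg_neg, smul_smul, inv_mul_cancel₀ hp,
      one_smul] at h2
  push Not at hC
  obtain ⟨y, hy, hψy⟩ := hA a ha
  obtain ⟨lam, hl0, hl2⟩ := hex
  obtain ⟨y', hy', hψy'⟩ := hA a' ha'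
  set i := a.1
  set l := a'.1
  set bi : κ × μ → F := Pi.single y (ψ y)⁻¹
  set bl : κ × μ → F := Pi.single y' (ψ y')⁻¹
  set χi := blk i ψ
  set χl := blk l ψ
  have hyl : y'.1 ≠ i := by rw [hy']; exact Ne.symm haa
  have hyi : y.1 ≠ l := by rw [hy]; exact haa
  have hχiu : χi ⬝ᵥ u = 0 := by rw [blk_dot_comm]; exact hC a ha
  have hχlu : χl ⬝ᵥ u = 0 := by rw [blk_dot_comm]; exact hC a' ha'
  have d1 : χi ⬝ᵥ bi = 1 := by simp [χi, bi, blk, hy, hψy]
  have d2 : χl ⬝ᵥ bl = 1 := by simp [χl, bl, blk, hy', hψy']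
  have d3 : χi ⬝ᵥ bl = 0 := by simp [χi, bl, blk, hyl]
  have d4 : χl ⬝ᵥ bi = 0 := by simp [χl, bi, blk, hyi]
  have d5 : ψ ⬝ᵥ bi = 1 := by simp [bi, hψy]
  have d6 : ψ ⬝ᵥ bl = 1 := by simp [bl, hψy']
  have hsdet : (R ((lam - 1) • bi) χi * R ((lam⁻¹ - 1) • bl) χl).det = 1 := by
    rw [det_mul, det_R, det_R, dotProduct_smul, dotProduct_smul, d1, d2]
    simp [hl0]
  have hbd : BD (R ((lam - 1) • bi) χi * R ((lam⁻¹ - 1) • bl) χl) := by
    refine (BD_R i (fun c hc => ?_) blk_supp).mul (BD_R l (fun c hc => ?_) blk_supp)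
    · rw [single_supp (a := y) (c := (ψ y)⁻¹) c (fun e => hc (by simp [bi, e])), hy]
    · rw [single_supp (a := y') (c := (ψ y')⁻¹) c (fun e => hc (by simp [bl, e])), hy']
  set ψ' := ψ + (lam⁻¹ - 1) • χi + (lam - 1) • χl
  have h1 : All K u ψ' := by
    refine h.conj (s := ⟨_, hsdet⟩) (hK (BD.mem hbd)) ?_ ?_
    · show (R ((lam - 1) • bi) χi * R ((lam⁻¹ - 1) • bl) χl) *ᵥ u = u
      rw [← mulVec_mulVec, R_mulVec ((lam⁻¹ - 1) • bl), hχlu, zero_smul, add_zero, R_mulVec, hχiu,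
        zero_smul, add_zero]
    · show ψ' ᵥ* (R ((lam - 1) • bi) χi * R ((lam⁻¹ - 1) • bl) χl) = ψ
      have f1 : ψ' + (ψ' ⬝ᵥ ((lam - 1) • bi)) • χi = ψ + (lam - 1) • χl := by
        simp only [ψ', add_dotProduct, smul_dotProduct, dotProduct_smul, d1, d4, d5, smul_eq_mul]
        match_scalars <;> field_simp <;> ring
      have f2 : (ψ + (lam - 1) • χl) ⬝ᵥ ((lam⁻¹ - 1) • bl) = -(lam - 1) := by
        simp only [add_dotProduct, smul_dotProduct, dotProduct_smul, d2, d6, smul_eq_mul]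
        field_simp
        ring
      rw [← vecMul_vecMul, vecMul_R, vecMul_R, f1, f2, neg_smul, add_neg_cancel_right]
  have h2 := (h.smul_right lam⁻¹).sub_right h1
  refine root_of_zero_block hμ hK h2 (fun e => ?_) ha (fun c hc => ?_)
  · have f1 : χi y' = 0 := if_neg hyl
    have f2 : χl y' = ψ y' := if_pos hy'
    have := congrFun e y'
    simp [ψ', f1, f2] at this
    refine hl2 ?_
    have h3 : (lam - lam⁻¹) * ψ y' = 0 := by linear_combination this
    have h4 := (mul_eq_zero.1 h3).resolve_right hψy'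
    calc lam * lam = lam * lam⁻¹ := congrArg (lam * ·) (sub_eq_zero.1 h4)
      _ = 1 := mul_inv_cancel₀ hl0
  · have f1 : χi c = ψ c := if_pos hc
    have f2 : χl c = 0 := if_neg (by rw [hc]; exact haa)
    simp [ψ', f1, f2]
    ring

/-- Overgroups of the block stabiliser. -/
theorem le_bstab_or_top_two [Nonempty κ] (hμ : Nontrivial μ)
    (hex : ∃ c : F, c ≠ 0 ∧ c * c ≠ 1)
    (hK : bstab (F := F) (κ := κ) (μ := μ) ⊆ K) :
    K = ⊤ ∨ (K : Set (SpecialLinearGroup (κ × μ) F)) ⊆ bstab := by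
  by_cases hR : ∀ g ∈ K, g ∈ bstab (F := F) (κ := κ) (μ := μ)
  · exact Or.inr hR
  push Not at hR
  obtain ⟨g, hg, hgb⟩ := hR
  -- a root group with centre in two blocks
  have find : ∀ g ∈ K, (∀ f : κ → κ, ¬ ∀ a b, g.1 a b ≠ 0 → a.1 = f b.1) →
      ∃ p r : κ × μ, p.1 ≠ r.1 ∧ All K (Pi.single p 1) (Pi.single r 1) := by
    intro g hg hno
    have einv : (g⁻¹).1 * g.1 = 1 := congrArg Subtype.val (inv_mul_cancel g)
    have use2 : ∀ (u0 φ : κ × μ → F) (i : κ) (a a' : κ × μ), (∀ c, u0 c ≠ 0 → c.1 = i) →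
        (∀ c, φ c ≠ 0 → c.1 = i) → φ ⬝ᵥ u0 = 0 → φ ≠ 0 → (g.1 *ᵥ u0) a ≠ 0 →
        (g.1 *ᵥ u0) a' ≠ 0 → a.1 ≠ a'.1 →
        ∃ p r : κ × μ, p.1 ≠ r.1 ∧ All K (Pi.single p 1) (Pi.single r 1) := by
      intro u0 φ i a a' hu hφ h0 hφ0 h1 h2 h3
      have hA : All K u0 φ := fun c => ⟨by rw [smul_dotProduct, h0, smul_zero],
        Tv_mem hK i hu (fun b hb => hφ b fun e => hb (by simp [e])) _⟩
      have hA' : All K (g.1 *ᵥ u0) (φ ᵥ* (g⁻¹).1) :=
        hA.conj hg rfl (by rw [vecMul_vecMul, einv, vecMul_one])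
      refine exists_root hμ hK hex hA' (fun e => hφ0 ?_) h1 h2 h3
      have h9 : (φ ᵥ* (g⁻¹).1) ᵥ* g.1 = 0 := by rw [e, zero_vecMul]
      rwa [vecMul_vecMul, einv, vecMul_one] at h9
    by_cases hcol : ∃ a a' b, g.1 a b ≠ 0 ∧ g.1 a' b ≠ 0 ∧ a.1 ≠ a'.1
    · obtain ⟨a, a', b, h1, h2, h3⟩ := hcol
      obtain ⟨x', hx'⟩ := exists_ne b.2
      have hb : ((b.1, x') : κ × μ) ≠ b := fun e => hx' (congrArg Prod.snd e)
      refine use2 (Pi.single b 1) (Pi.single (b.1, x') 1) b.1 a a' single_supp single_supp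
        (by simp [hb]) (fun e => one_ne_zero (α := F) (by simpa using congrFun e (b.1, x')))
        ?_ ?_ h3 <;> simpa [mulVec_single_one]
    push Not at hcol
    have hne : ∀ b, ∃ a, g.1 a b ≠ 0 := by
      intro b
      by_contra hb
      push Not at hb
      have := det_eq_zero_of_column_eq_zero b hb
      exact one_ne_zero (g.2.symm.trans this)
    choose f hf using hne
    obtain ⟨x0, -⟩ := exists_pair_ne μ
    have hno' := hno fun i => (f (i, x0)).1
    push Not at hno'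
    obtain ⟨a, b, hab, hne'⟩ := hno'
    set b0 : κ × μ := (b.1, x0)
    have hb0 : f b0 ≠ a := fun e => hne' (by rw [← e])
    have hbb : b ≠ b0 := fun e => hne' (hcol a (f b0) b hab (e ▸ hf b0))
    refine use2 (Pi.single b 1 + Pi.single b0 1) (Pi.single b 1 - Pi.single b0 1) b.1 a (f b0)
      (fun c hc => ?_) (fun c hc => ?_) ?_
      (fun e => one_ne_zero (α := F) (by simpa [hbb] using congrFun e b)) ?_ ?_ hne'
    · by_contra e
      exact hc (by simp [show c ≠ b from fun h => e (by rw [h]),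
        show c ≠ b0 from fun h => e (by rw [h])])
    · by_contra e
      exact hc (by simp [show c ≠ b from fun h => e (by rw [h]),
        show c ≠ b0 from fun h => e (by rw [h])])
    · simp [sub_dotProduct, hbb, hbb.symm]
    · have z : g.1 a b0 = 0 := by
        by_contra h
        exact hne' (hcol a (f b0) b0 h (hf b0))
      simp [mulVec_add, mulVec_single_one, z, hab]
    · have z : g.1 (f b0) b = 0 := by
        by_contra h
        exact hne' (hcol a (f b0) b hab h)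
      simp [mulVec_add, mulVec_single_one, z, hf b0]
  obtain ⟨p, r, hpr, hroot⟩ : ∃ p r : κ × μ, p.1 ≠ r.1 ∧
      All K (Pi.single p 1) (Pi.single r 1) := by
    by_cases h1 : ∀ f : κ → κ, ¬ ∀ a b, g.1 a b ≠ 0 → a.1 = f b.1
    · exact find g hg h1
    refine find g⁻¹ (K.inv_mem hg) fun f' hf' => h1 fun f hf => hgb ?_
    have hid : ∀ i, f' (f i) = i := by
      intro i
      obtain ⟨x0, -⟩ := exists_pair_ne μ
      have e : ((g⁻¹).1 * g.1) (i, x0) (i, x0) ≠ 0 := by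
        rw [show (g⁻¹).1 * g.1 = 1 from congrArg Subtype.val (inv_mul_cancel g)]
        simp
      rw [Matrix.mul_apply] at e
      obtain ⟨c, -, hc⟩ := Finset.exists_ne_zero_of_sum_ne_zero e
      rw [← hf c _ (right_ne_zero_of_mul hc)]
      exact (hf' _ c (left_ne_zero_of_mul hc)).symm
    exact ⟨Equiv.ofBijective f (Finite.injective_iff_bijective.1 (Function.LeftInverse.injective hid)),
      hf⟩
  refine Or.inl ?_
  have : Nontrivial (κ × μ) := by
    obtain ⟨x, y, hxy⟩ := exists_pair_ne μ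
    exact ⟨(p.1, x), (p.1, y), fun e => hxy (congrArg Prod.snd e)⟩
  refine eq_top_of_transvection_mem K fun a b hab c => InT.smul_root ?_ hab
  by_cases e : a.1 = b.1
  · exact all_within hK e hab c
  · exact exists_perm hK hpr e hroot c

/-- A scalar whose square is not one. -/
theorem exists_sq {F : Type*} [Field F] [Fintype F] (hq : 4 ≤ Fintype.card F) :
    ∃ c : F, c ≠ 0 ∧ c * c ≠ 1 := by
  classical
  obtain ⟨c, -, hc⟩ := Finset.exists_mem_notMem_of_card_lt_card (t := (Finset.univ : Finset F))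
    (s := {0, 1, -1}) (by rw [Finset.card_univ]; exact Finset.card_le_three.trans_lt (by omega))
  simp only [Finset.mem_insert, Finset.mem_singleton, not_or] at hc
  exact ⟨c, hc.1, fun e => (mul_self_eq_one_iff.1 e).elim hc.2.1 hc.2.2⟩

variable [Fintype F]

theorem isMaximalIn {D : Fin 2 → Submodule F (Fin 4 → F)} (hq : 4 ≤ Fintype.card F)
    (hD : Cfsg.Geo.IsMDecomposition 2 D) :
    Cfsg.Geo.IsMaximalIn (Cfsg.Geo.specialLinear (Fin 4) F)
      (Cfsg.Geo.decompositionStabilizer D ⊓ Cfsg.Geo.specialLinear (Fin 4) F) := by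
  obtain ⟨-, f, -, hmem, hrange⟩ := DecompMax.exists_model hD
  refine ⟨lt_of_le_not_ge inf_le_right fun hle => ?_, fun M hM hM' => ?_⟩
  · have hm := hD.pos
    let a : Fin 2 × Fin 2 := (⟨0, by omega⟩, ⟨0, hm⟩)
    let b : Fin 2 × Fin 2 := (⟨1, by omega⟩, ⟨0, hm⟩)
    have hab : a.1 ≠ b.1 := by simp [a, b]
    obtain ⟨σ, hσ⟩ := (hmem (SpecialLinearGroup.transvection
      (show a ≠ b from fun e => hab (by rw [e])) (1 : F))).1 (hle ((hrange _).2 ⟨_, rfl⟩)).1
    have hne : a ≠ b := fun e => hab (by rw [e])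
    refine hab ?_
    rw [hσ b b (by simp [SpecialLinearGroup.transvection_coe, Matrix.transvection, Ne.symm hne, hne]),
      hσ a b (by simp [SpecialLinearGroup.transvection_coe, Matrix.transvection, Ne.symm hne, hne])]
  rcases le_bstab_or_top_two (K := M.comap f) inferInstance (exists_sq hq) (fun g hg =>
      hM ⟨(hmem g).2 hg, (hrange _).2 ⟨g, rfl⟩⟩) with h | h
  · refine Or.inr (le_antisymm hM' fun g hg => ?_)
    obtain ⟨s, rfl⟩ := (hrange g).1 hg
    have : s ∈ M.comap f := h ▸ Subgroup.mem_top s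
    exact this
  · refine Or.inl (le_antisymm (fun g hg => ?_) hM)
    obtain ⟨s, rfl⟩ := (hrange g).1 (hM' hg)
    exact ⟨(hmem s).2 (h hg), (hrange _).2 ⟨s, rfl⟩⟩


end CfsgLib.Classical.SLFour.Blocks
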