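import Cfsg.Agent.Lib.Classical.LinearHerm
import Cfsg.Agent.Lib.Classical.UnitaryMax
import Cfsg.Agent.Lib.Classical.SubspaceStab
import Cfsg.Agent.Lib.Classical.Forms
import Cfsg.Agent.Lib.AutPSL.Classes

set_option autoImplicit false

/-!
The similarity group of a unitary form is maximal in the special linear group in dimension at least four.
-/

namespace CfsgLib.Classical.HermSimFour

open Matrix Cfsg
open scoped MatrixGroups
open CfsgLib.Classical.MinIndex (app app_one app_mul app_inv app_inv' app_add app_smul ext_app tv app_tv centres eq_top_of_centres mem_specialLinear)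
open CfsgLib.ClassicalAut (Unitary.Conj Unitary.space Unitary.exists_conj Unitary.herm_apply)
open CfsgLib.Classical.Herm (h_add_left h_add_right h_sub_left h_sub_right h_smul_left h_smul_right h_zero_left h_zero_right h_eq_zero_symm h_ne_zero_symm bar_self h_nondeg h_swap orth Nondeg exists_orth_one exists_split isCompl_orth nondeg_orth finrank_orth exists_repr exists_aniso_perp exists_scaled exists_move_norm exists_skew exists_T sub_mem_iso_span exists_siegel gen gen_fix mem_orth_orth exists_isotropic_ne)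

variable {F : Type*} [Field F] [Finite F] {q : ℕ} (K : Unitary.Conj F q) {n : ℕ}

local notation "H" => hermForm n F q
local notation "L" => Matrix.SpecialLinearGroup (Fin n) F

open CfsgLib.Classical.HermSim (IsTr sim coe_mem_sim exists_isTr isTr_conj isTr_mul span_single_nondeg top_nondeg exists_aniso_perp' exists_coord isMaximalIn_map mem_similarityGroup_iff)

include K

/-- The isotropic vectors of a non-degenerate space of dimension at least two span it. -/
theorem mem_of_iso {U : Submodule F (Fin n → F)} (hU : Nondeg (q := q) U)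
    (hd : 2 ≤ Module.finrank F U) {P : Submodule F (Fin n → F)}
    (h : ∀ v ∈ U, H v v = 0 → v ∈ P) : U ≤ P := by
  obtain ⟨a, ha, ha0, haa⟩ := exists_isotropic_ne K hd
  obtain ⟨y, hy⟩ : ∃ y : F, y + K.bar y = 1 := by
    obtain ⟨y, hy⟩ := K.exists_trace
    refine ⟨y / (y + K.bar y), ?_⟩
    rw [map_div₀, map_add, K.bar_bar, add_comm (K.bar y) y, ← add_div, div_self hy]
  intro x hx
  by_cases hxa : H x a = 0
  · obtain ⟨z, hz, -, hza⟩ := Herm.exists_prescribed K hU (Q := ⊥) bot_le ha
      (fun e => ha0 ((Submodule.mem_bot F).1 e))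
    have key : ∀ w ∈ U, H w a = 1 → w ∈ P := by
      intro w hw hwa
      have haw : H a w = 1 := by rw [h_swap K w a, hwa, map_one]
      have h1 : w + (-(y * H w w)) • a ∈ P := by
        refine h _ (U.add_mem hw (U.smul_mem _ ha)) ?_
        simp only [h_add_left K, h_add_right K, h_smul_left K, h_smul_right K, haa, hwa, haw,
          mul_zero, mul_one, add_zero, map_neg, map_mul, bar_self K]
        linear_combination (-H w w) * hy
      have h2 := P.smul_mem (-(y * H w w)) (h a ha haa)
      simpa using P.sub_mem h1 h2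
    have h1 := key _ (U.add_mem hz hx) (by rw [h_add_left K, hza, hxa, add_zero])
    simpa using P.sub_mem h1 (key z hz hza)
  · obtain ⟨e, he⟩ : ∃ e : F, e * H x a = 1 := ⟨(H x a)⁻¹, inv_mul_cancel₀ hxa⟩
    have hxx' : e • x ∈ U := U.smul_mem _ hx
    have hwa : H (e • x) a = 1 := by rw [h_smul_left K, he]
    have haw : H a (e • x) = 1 := by rw [h_swap K (e • x) a, hwa, map_one]
    have h1 : e • x + (-(y * H (e • x) (e • x))) • a ∈ P := by
      refine h _ (U.add_mem hxx' (U.smul_mem _ ha)) ?_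
      generalize e • x = w at hwa haw
      simp only [h_add_left K, h_add_right K, h_smul_left K, h_smul_right K, haa, hwa, haw,
        mul_zero, mul_one, add_zero, map_neg, map_mul, bar_self K]
      linear_combination (-H w w) * hy
    have h2 := P.smul_mem (-(y * H (e • x) (e • x))) (h a ha haa)
    have h3 := P.smul_mem (H x a) (P.sub_mem h1 h2)
    rwa [add_sub_cancel_right, smul_smul, mul_comm, he, one_smul] at h3

/-- An isotropic vector orthogonal to `u` but not to `w`. -/
theorem exists_iso_sep (hn : 4 ≤ n) {u w : Fin n → F} (hu0 : u ≠ 0) (hw : w ∉ Submodule.span F {u}) :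
    ∃ v, H v v = 0 ∧ H v u = 0 ∧ H w v ≠ 0 := by
  by_contra hc
  push Not at hc
  obtain ⟨z, hz, hwz⟩ := exists_orth_one K hw
  have hz' : H u z = 0 := hz u (Submodule.mem_span_singleton_self u)
  let W : Submodule F (Fin n → F) :=
    { carrier := {v | H w v = 0}
      add_mem' := fun {a b} ha hb => by
        show H w (a + b) = 0
        rw [h_add_right K, show H w a = 0 from ha, show H w b = 0 from hb, add_zero]
      zero_mem' := h_zero_right K w
      smul_mem' := fun c a ha => by
        show H w (c • a) = 0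
        rw [h_smul_right K, show H w a = 0 from ha, mul_zero] }
  have hiso : ∀ v, H v v = 0 → H u v = 0 → v ∈ W := fun v hv huv => hc v hv (h_eq_zero_symm K huv)
  suffices z ∈ W by
    have h0 : H w z = 0 := this
    rw [hwz] at h0
    exact one_ne_zero h0
  by_cases huu : H u u = 0
  · obtain ⟨u', hu', huu'⟩ := (Unitary.space (n := n) K).exists_partner huu hu0
    replace hu' : H u' u' = 0 := hu'
    replace huu' : H u u' = 1 := huu'
    have hu'u : H u' u = 1 := by rw [h_swap K u u', huu', map_one]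
    set S := Submodule.span F ({u, u'} : Set (Fin n → F)) with hSdef
    have hS : Nondeg (q := q) S := by
      intro x hx hx0
      obtain ⟨α, β, rfl⟩ := Submodule.mem_span_pair.1 hx
      by_cases hα : α = 0
      · refine ⟨u, Submodule.subset_span (Set.mem_insert _ _), ?_⟩
        rw [h_add_left K, h_smul_left K, h_smul_left K, huu, hu'u, mul_zero, zero_add, mul_one]
        intro hβ
        exact hx0 (by rw [hα, hβ, zero_smul, zero_smul, add_zero])
      · refine ⟨u', Submodule.subset_span (Set.mem_insert_of_mem _ rfl), ?_⟩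
        rw [h_add_left K, h_smul_left K, h_smul_left K, hu', huu', mul_zero, add_zero, mul_one]
        exact hα
    have hd : 2 ≤ Module.finrank F (orth K S) := by
      have h1 := finrank_orth K hS
      have h2 : Module.finrank F S ≤ 2 :=
        by
        rw [hSdef, show ({u, u'} : Set (Fin n → F)) = Set.range ![u, u'] by simp [Set.pair_comm]]
        exact (finrank_range_le_card (R := F) ![u, u']).trans_eq (Fintype.card_fin 2)
      omega
    obtain ⟨s, hs, hzs⟩ := exists_split K hS z
    have hP : orth K S ≤ W := mem_of_iso K (nondeg_orth K hS) hd fun v hv hvv =>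
      hiso v hvv (hv u (Submodule.subset_span (Set.mem_insert _ _)))
    obtain ⟨α, β, rfl⟩ := Submodule.mem_span_pair.1 hs
    have hβ : β = 0 := by
      have h1 := hzs u (Submodule.subset_span (Set.mem_insert _ _))
      rw [h_sub_right K, h_add_right K, h_smul_right K, h_smul_right K, huu, huu', hz', mul_zero,
        zero_add, mul_one, zero_sub, neg_eq_zero] at h1
      exact (map_eq_zero K.bar).1 h1
    rw [← add_sub_cancel (α • u + β • u') z, hβ, zero_smul, add_zero]
    refine W.add_mem (W.smul_mem _ (hiso u huu huu)) ?_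
    have := hP hzs
    rwa [hβ, zero_smul, add_zero] at this
  · have hS := span_single_nondeg K huu
    refine mem_of_iso K (nondeg_orth K hS) ?_ (fun v hv hvv => hiso v hvv (hv u (Submodule.mem_span_singleton_self u)))
      (fun a ha => ?_)
    · have h1 := finrank_orth K hS
      rw [finrank_span_singleton hu0] at h1
      omega
    · obtain ⟨c, rfl⟩ := Submodule.mem_span_singleton.1 ha
      rw [h_smul_left K, hz', mul_zero]

/-- A pair moved out of the unitary transvections. -/
theorem exists_pair (hn : 4 ≤ n) {M : Subgroup L} (hM : (sim (n := n) q : Set L) ⊆ M) {g : L} (hg : g ∈ M)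
    (hgs : g ∉ sim (n := n) q) :
    ∃ w u, w ≠ 0 ∧ H w u = 0 ∧ u ∉ Submodule.span F {w} ∧ ∃ t ∈ M, IsTr q t w u := by
  have hU : ∀ w, ∃ u, ∀ x, H x u = H (app g⁻¹ x) (app g⁻¹ w) := fun w => exists_repr K
    { toFun := fun x => H (app g⁻¹ x) (app g⁻¹ w)
      map_add' := fun a b => by rw [app_add, h_add_left K]
      map_smul' := fun c a => by rw [app_smul, h_smul_left K]; rfl }
  choose U hU using hU
  by_cases hw : ∀ w, H (app g⁻¹ w) (app g⁻¹ w) = 0 → U w ∈ Submodule.span F {w}
  · exfalso
    have app0 : app g⁻¹ (0 : Fin n → F) = 0 := mulVec_zero _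
    have inj : ∀ {x}, app g⁻¹ x = 0 → x = 0 := fun {x} h => by
      rw [← app_inv' g x, h]; exact mulVec_zero _
    have uniq : ∀ a b, (∀ x, H x a = H x b) → a = b := fun a b h =>
      sub_eq_zero.1 (h_nondeg K fun y => h_eq_zero_symm K (by rw [h_sub_right K, h y, sub_self]))
    let T : (Fin n → F) →ₗ[F] (Fin n → F) :=
      { toFun := U
        map_add' := fun a b => uniq _ _ fun x => by
          rw [h_add_right K, hU, hU, hU, app_add, h_add_right K]
        map_smul' := fun c a => uniq _ _ fun x => by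
          rw [RingHom.id_apply, h_smul_right K, hU, hU, app_smul, h_smul_right K] }
    have hT : ∀ w, T w = U w := fun _ => rfl
    have heig : ∀ w, H (app g⁻¹ w) (app g⁻¹ w) = 0 → ∃ κ : F, T w = κ • w := fun w h => by
      obtain ⟨κ, hκ⟩ := Submodule.mem_span_singleton.1 (hw w h)
      exact ⟨κ, (hT w).trans hκ.symm⟩
    have horth : ∀ (a b : Fin n → F) (κ κ' : F), H (app g⁻¹ a) (app g⁻¹ a) = 0 → H (app g⁻¹ b) (app g⁻¹ b) = 0 →
        H (app g⁻¹ a) (app g⁻¹ b) = 0 → LinearIndependent F ![a, b] →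
        T a = κ • a → T b = κ' • b → κ = κ' := by
      intro a b κ κ' ha hb hab hli h1 h2
      obtain ⟨κ'', h3⟩ := heig (a + b) (by
        rw [app_add, h_add_left K, h_add_right K, h_add_right K, ha, hb, hab, h_eq_zero_symm K hab]
        simp)
      rw [map_add, h1, h2, smul_add] at h3
      have h4 := LinearIndependent.pair_iff.1 hli (κ - κ'') (κ' - κ'') (by
        rw [sub_smul, sub_smul, sub_add_sub_comm, h3, sub_self])
      exact (sub_eq_zero.1 h4.1).trans (sub_eq_zero.1 h4.2).symm
    obtain ⟨a₀, ha₀', ha₀0, ha₀⟩ := exists_isotropic_ne K (P := (⊤ : Submodule F (Fin n → F)))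
      (by rw [finrank_top, Module.finrank_fin_fun]; omega)
    have hb₀ : H (app g⁻¹ (app g a₀)) (app g⁻¹ (app g a₀)) = 0 := by rw [app_inv]; exact ha₀
    obtain ⟨κ, hκ⟩ := heig _ hb₀
    have hall : ∀ v, H v v = 0 → app g v ∈ LinearMap.ker (T - κ • LinearMap.id) := by
      intro v hv
      rw [LinearMap.mem_ker, LinearMap.sub_apply, LinearMap.smul_apply, LinearMap.id_apply, sub_eq_zero]
      by_cases hvs : v ∈ Submodule.span F {a₀}
      · obtain ⟨c, rfl⟩ := Submodule.mem_span_singleton.1 hvs
        rw [app_smul, map_smul, hκ, smul_comm]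
      have hv' : H (app g⁻¹ (app g v)) (app g⁻¹ (app g v)) = 0 := by rw [app_inv]; exact hv
      obtain ⟨κ', hκ'⟩ := heig _ hv'
      by_cases hav : H a₀ v = 0
      · have li : LinearIndependent F ![app g a₀, app g v] := by
          refine LinearIndependent.pair_iff.2 fun s t hst => ?_
          rw [← app_smul, ← app_smul, ← app_add] at hst
          have h0 : s • a₀ + t • v = 0 := by
            rw [← app_inv g (s • a₀ + t • v), hst]; exact mulVec_zero _
          by_cases ht : t = 0
          · rw [ht, zero_smul, add_zero] at h0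
            exact ⟨(smul_eq_zero.1 h0).resolve_right ha₀0, ht⟩
          · refine absurd (Submodule.mem_span_singleton.2 ⟨-(t⁻¹ * s), ?_⟩) hvs
            rw [neg_smul, ← smul_smul, eq_comm, eq_neg_iff_add_eq_zero]
            calc v + t⁻¹ • s • a₀ = t⁻¹ • (s • a₀ + t • v) := by
                  rw [smul_add t⁻¹, smul_smul t⁻¹ t, inv_mul_cancel₀ ht, one_smul, add_comm]
              _ = 0 := by rw [h0, smul_zero]
        rw [hκ', horth _ _ κ κ' hb₀ hv' (by rw [app_inv, app_inv]; exact hav) li hκ hκ']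
      -- a third vector orthogonal to both, outside their span
      set S := Submodule.span F (Set.range ![a₀, v]) with hSdef
      set P := orth K S
      have hva : H v a₀ ≠ 0 := h_ne_zero_symm K hav
      have hS : Nondeg (q := q) S := by
        intro x hx hx0
        have hx' : x ∈ Submodule.span F ({a₀, v} : Set (Fin n → F)) := by
          rw [hSdef] at hx
          rwa [show Set.range ![a₀, v] = {a₀, v} by simp [Set.pair_comm]] at hx
        obtain ⟨α, β, rfl⟩ := Submodule.mem_span_pair.1 hx'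
        by_cases hα : α = 0
        · refine ⟨a₀, Submodule.subset_span ⟨0, rfl⟩, ?_⟩
          rw [h_add_left K, h_smul_left K, h_smul_left K, ha₀, mul_zero, zero_add]
          refine mul_ne_zero (fun hβ => ?_) hva
          exact hx0 (by rw [hα, hβ, zero_smul, zero_smul, add_zero])
        · refine ⟨v, Submodule.subset_span ⟨1, rfl⟩, ?_⟩
          rw [h_add_left K, h_smul_left K, h_smul_left K, hv, mul_zero, add_zero]
          exact mul_ne_zero hα hav
      obtain ⟨c, hc, hcS⟩ : ∃ c, (c ∈ (⊤ : Submodule F (Fin n → F)) ⊓ P ∧ H c c = 0) ∧ c ∉ S := by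
        have h1 := finrank_orth K hS
        have h2 : Module.finrank F S ≤ 2 :=
          (finrank_range_le_card (R := F) ![a₀, v]).trans_eq (Fintype.card_fin 2)
        obtain ⟨c, hc, hc0, hcc⟩ := exists_isotropic_ne K (P := P)
          (show 2 ≤ Module.finrank F (orth K S) by omega)
        exact ⟨c, ⟨⟨Submodule.mem_top, hc⟩, hcc⟩, fun h =>
          hc0 ((Submodule.eq_bot_iff _).1 (isCompl_orth K hS).inf_eq_bot c ⟨h, hc⟩)⟩
      have hc' : H (app g⁻¹ (app g c)) (app g⁻¹ (app g c)) = 0 := by rw [app_inv]; exact hc.2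
      obtain ⟨κ'', hκ''⟩ := heig _ hc'
      have li : ∀ x : Fin n → F, x ≠ 0 → x ∈ S → LinearIndependent F ![app g x, app g c] := by
        intro x hx0 hx
        refine LinearIndependent.pair_iff.2 fun s t hst => ?_
        rw [← app_smul, ← app_smul, ← app_add] at hst
        have h0 : s • x + t • c = 0 := by
          rw [← app_inv g (s • x + t • c), hst]; exact mulVec_zero _
        by_cases ht : t = 0
        · rw [ht, zero_smul, add_zero] at h0
          exact ⟨(smul_eq_zero.1 h0).resolve_right hx0, ht⟩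
        · refine absurd ?_ hcS
          have e : c = (-(t⁻¹ * s)) • x := by
            rw [neg_smul, ← smul_smul, eq_neg_iff_add_eq_zero]
            calc c + t⁻¹ • s • x = t⁻¹ • (s • x + t • c) := by
                  rw [smul_add t⁻¹, smul_smul t⁻¹ t, inv_mul_cancel₀ ht, one_smul, add_comm]
              _ = 0 := by rw [h0, smul_zero]
          rw [e]; exact S.smul_mem _ hx
      have hv0 : v ≠ 0 := fun e => hvs (e ▸ zero_mem _)
      have hac : H a₀ c = 0 := hc.1.2 a₀ (Submodule.subset_span ⟨0, rfl⟩)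
      have hvc : H v c = 0 := hc.1.2 v (Submodule.subset_span ⟨1, rfl⟩)
      have e1 := horth _ _ κ κ'' hb₀ hc' (by rw [app_inv, app_inv]; exact hac)
        (li a₀ ha₀0 (Submodule.subset_span ⟨0, rfl⟩)) hκ hκ''
      have e2 := horth _ _ κ' κ'' hv' hc' (by rw [app_inv, app_inv]; exact hvc)
        (li v hv0 (Submodule.subset_span ⟨1, rfl⟩)) hκ' hκ''
      rw [hκ', e2, ← e1]
    let gl : (Fin n → F) →ₗ[F] (Fin n → F) :=
      { toFun := app g, map_add' := app_add g, map_smul' := app_smul g }
    have hker : ∀ v, app g v ∈ LinearMap.ker (T - κ • LinearMap.id) := fun v =>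
      sub_mem_iso_span K (top_nondeg K) (by rw [finrank_top, Module.finrank_fin_fun]; omega)
        (P := (LinearMap.ker (T - κ • LinearMap.id)).comap gl) (fun v _ h => hall v h)
        (Submodule.mem_top (x := v))
    have hform : ∀ x y, H (app g⁻¹ x) (app g⁻¹ y) = K.bar κ * H x y := fun x y => by
      have h := hker (app g⁻¹ y)
      rw [app_inv', LinearMap.mem_ker, LinearMap.sub_apply, LinearMap.smul_apply, LinearMap.id_apply,
        sub_eq_zero, hT] at h
      rw [← hU, h, h_smul_right K]
    have hκ0 : K.bar κ ≠ 0 := fun e => by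
      refine ha₀0 (h_nondeg K fun y => ?_)
      rw [← app_inv g a₀, ← app_inv g y, hform, e, zero_mul]
    refine hgs ⟨(Units.mk0 _ hκ0)⁻¹, fun x y => ?_⟩
    have := hform (app g x) (app g y)
    rw [app_inv, app_inv] at this
    rw [Units.val_inv_eq_inv_val, Units.val_mk0, this, ← mul_assoc, inv_mul_cancel₀ hκ0, one_mul]
  push Not at hw
  obtain ⟨w, hw0, hwU⟩ := hw
  obtain ⟨θ, hθ0, hθ⟩ := exists_skew K
  obtain ⟨t, ht⟩ := exists_T K hw0 hθ
  refine ⟨w, K.bar θ • U w, fun e => hwU ?_, ?_, fun h => hwU ?_, g * (t : L) * g⁻¹,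
    M.mul_mem (M.mul_mem hg (hM (coe_mem_sim t))) (M.inv_mem hg), fun x => ?_⟩
  · have : U w = 0 := h_nondeg K fun y => h_eq_zero_symm K (by
      rw [hU, e, show app g⁻¹ (0 : Fin n → F) = 0 from mulVec_zero _, h_zero_right K])
    rw [this]; exact zero_mem _
  · rw [h_smul_right K, hU, hw0, mul_zero]
  · have hb : K.bar θ ≠ 0 := (map_ne_zero K.bar).2 hθ0
    have := Submodule.smul_mem _ (K.bar θ)⁻¹ h
    rwa [smul_smul, inv_mul_cancel₀ hb, one_smul] at this
  · have ht' : app (t : L) (app g⁻¹ x) = app g⁻¹ x + (θ * H (app g⁻¹ x) (app g⁻¹ w)) • app g⁻¹ w :=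
      ht.2.2 _
    rw [app_mul, app_mul, ht', app_add, app_smul, app_inv', app_inv', h_smul_right K, hU, K.bar_bar]

theorem sim_le_or_top (hn : 4 ≤ n) (M : Subgroup L) (hM : (sim (n := n) q : Set L) ⊆ M) :
    M = ⊤ ∨ (M : Set L) ⊆ sim (n := n) q := by
  by_cases hR : (M : Set L) ⊆ sim (n := n) q
  · exact Or.inr hR
  left
  obtain ⟨g, hg, hgs⟩ := Set.not_subset.1 hR
  obtain ⟨w, u, hw0, hwu, hui, t, ht, htw⟩ := exists_pair K hn hM hg hgs
  have hu0 : u ≠ 0 := fun e => hui (e ▸ zero_mem _)
  -- an isotropic centre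
  obtain ⟨a, u', ha0, haa, hau, hai, t', ht', htu⟩ : ∃ a u', a ≠ 0 ∧ H a a = 0 ∧ H a u' = 0 ∧
      u' ∉ Submodule.span F {a} ∧ ∃ t' ∈ M, IsTr q t' a u' := by
    by_cases hww : H w w = 0
    · exact ⟨w, u, hw0, hww, hwu, hui, t, ht, htw⟩
    obtain ⟨v, hvv, hvu, hwv⟩ := exists_iso_sep K hn (u := u) (w := w) hu0 (fun h => by
      obtain ⟨c, hc⟩ := Submodule.mem_span_singleton.1 h
      refine hui (Submodule.mem_span_singleton.2 ⟨c⁻¹, ?_⟩)
      have hc0 : c ≠ 0 := fun e => hww (by rw [← hc, e, zero_smul, h_zero_left K])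
      rw [← hc, smul_smul, inv_mul_cancel₀ hc0, one_smul])
    obtain ⟨θ, hθ0, hθ⟩ := exists_skew K
    obtain ⟨s, hs⟩ := exists_T K hvv hθ
    have hs' : ∀ x, app (s : L) x = x + (θ * H x v) • v := hs.2.2
    refine ⟨v, K.bar (-(θ * H w v)) • u, fun e => hwv (by rw [e, h_zero_right K]), hvv, ?_, ?_, t * (s : L) * t⁻¹ * (s : L)⁻¹,
      M.mul_mem (M.mul_mem (M.mul_mem ht (hM (coe_mem_sim s))) (M.inv_mem ht))
        (M.inv_mem (hM (coe_mem_sim s))), fun x => ?_⟩
    · rw [h_smul_right K, hvu, mul_zero]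
    · intro h
      obtain ⟨c, hc⟩ := Submodule.mem_span_singleton.1 h
      have hb : K.bar (-(θ * H w v)) ≠ 0 :=
        (map_ne_zero K.bar).2 (neg_ne_zero.2 (mul_ne_zero hθ0 hwv))
      by_cases hc0 : c = 0
      · rw [hc0, zero_smul] at hc
        exact hu0 ((smul_eq_zero.1 hc.symm).resolve_left hb)
      · refine hwv ?_
        have hv : v = (c⁻¹ * K.bar (-(θ * H w v))) • u := by
          rw [← smul_smul, ← hc, smul_smul, inv_mul_cancel₀ hc0, one_smul]
        rw [hv, h_smul_right K, hwu, mul_zero]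
    · obtain ⟨y, rfl⟩ : ∃ y, x = app (s : L) (app t y) := ⟨app t⁻¹ (app (s : L)⁻¹ x),
        by rw [app_inv', app_inv']⟩
      have e1 : H v (K.bar (-(θ * H w v)) • u) = 0 := by rw [h_smul_right K, hvu, mul_zero]
      rw [app_mul (t * (s : L) * t⁻¹), app_inv, app_mul (t * (s : L)), app_inv, app_mul t, hs',
        hs' (app t y), htw y, htw]
      simp only [h_add_left K, h_smul_left K, h_smul_right K, hwu, hvu, mul_zero, add_zero,
        K.bar_bar]
      module
  obtain ⟨a', ha', haa'⟩ := (Unitary.space (n := n) K).exists_partner haa ha0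
  replace ha' : H a' a' = 0 := ha'
  replace haa' : H a a' = 1 := haa'
  have ha'a : H a' a = 1 := by rw [h_swap K a a', haa', map_one]
  set S := Submodule.span F (Set.range ![a, a']) with hSdef
  have hpair : S = Submodule.span F {a, a'} := by
    rw [hSdef]; congr 1; simp [Set.pair_comm]
  have hS : Nondeg (q := q) S := by
    intro x hx hx0
    have hx' : x ∈ Submodule.span F {a, a'} := by
      rwa [hpair] at hx
    obtain ⟨α, β, rfl⟩ := Submodule.mem_span_pair.1 hx'
    by_cases hα : α = 0
    · refine ⟨a, Submodule.subset_span ⟨0, rfl⟩, ?_⟩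
      rw [h_add_left K, h_smul_left K, h_smul_left K, haa, ha'a, mul_zero, zero_add, mul_one]
      intro hβ
      exact hx0 (by rw [hα, hβ, zero_smul, zero_smul, add_zero])
    · refine ⟨a', Submodule.subset_span ⟨1, rfl⟩, ?_⟩
      rw [h_add_left K, h_smul_left K, h_smul_left K, ha', haa', mul_zero, add_zero, mul_one]
      exact hα
  set P := orth K S
  have hP : Nondeg (q := q) P := nondeg_orth K hS
  have hPd : 2 ≤ Module.finrank F P := by
    have := finrank_orth K hS
    have h2 : Module.finrank F S ≤ 2 :=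
      (finrank_range_le_card (R := F) ![a, a']).trans_eq (Fintype.card_fin 2)
    exact (by omega : 2 ≤ Module.finrank F (orth K S))
  have hPa : ∀ p ∈ P, H a p = 0 := fun p hp => hp a (Submodule.subset_span ⟨0, rfl⟩)
  -- the functionals available at `a`
  let C : Set (Fin n → F) := {y | H a y = 0 ∧ ∃ s ∈ M, IsTr q s a y}
  have Cadd : ∀ y z, y ∈ C → z ∈ C → y + z ∈ C := fun y z ⟨hy, s, hs, hsy⟩ ⟨hz, s', hs', hsz⟩ =>
    ⟨by rw [h_add_right K, hy, hz, add_zero], _, M.mul_mem hs hs', isTr_mul K hsy hsz hy⟩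
  have Cneg : ∀ y, y ∈ C → -y ∈ C := fun y ⟨hy, s, hs, hsy⟩ => by
    refine ⟨by rw [← neg_one_smul F y, h_smul_right K, hy, mul_zero], s⁻¹, M.inv_mem hs, fun x => ?_⟩
    obtain ⟨z, rfl⟩ : ∃ z, x = app s z := ⟨app s⁻¹ x, (app_inv' s x).symm⟩
    rw [app_inv, hsy, ← neg_one_smul F y, h_smul_right K, h_add_left K, h_smul_left K, hy,
      mul_zero, add_zero, map_neg, map_one]
    module
  have Csub : ∀ y z, y ∈ C → z ∈ C → y - z ∈ C := fun y z hy hz => by
    rw [sub_eq_add_neg]; exact Cadd y _ hy (Cneg z hz)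
  have Cmove : ∀ h : SU n F q, app (h : L) a = a → ∀ y ∈ C, app (h : L) y ∈ C :=
    fun h ha y ⟨hy, s, hs, hsy⟩ => by
      refine ⟨?_, _, M.mul_mem (M.mul_mem (hM (coe_mem_sim h)) hs) (M.inv_mem (hM (coe_mem_sim h))),
        by have := isTr_conj K (g := (h : L)) h.2 hsy; rwa [ha] at this⟩
      rw [← ha]; exact (h.2 a y).trans hy
  have hu'C : u' ∈ C := ⟨hau, t', ht', htu⟩
  -- an isotropic vector of `P`
  obtain ⟨y, hy, hy0, hyy, hyC⟩ : ∃ y ∈ P, y ≠ 0 ∧ H y y = 0 ∧ y ∈ C := by
    obtain ⟨z, hz, hu0'⟩ := exists_split K hS u'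
    have hne : u' - z ≠ 0 := by
      intro e
      rw [sub_eq_zero] at e
      apply hai
      have hz' : z ∈ Submodule.span F {a, a'} := by
        rwa [hpair] at hz
      obtain ⟨α, β, hab⟩ := Submodule.mem_span_pair.1 hz'
      have : H a u' = K.bar β := by
        rw [e, ← hab, h_add_right K, h_smul_right K, h_smul_right K, haa, haa', mul_zero, zero_add,
          mul_one]
      rw [hau] at this
      have hβ : β = 0 := (map_eq_zero K.bar).1 this.symm
      rw [e, ← hab, hβ, zero_smul, add_zero]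
      exact Submodule.smul_mem _ _ (Submodule.mem_span_singleton_self a)
    obtain ⟨v, hv, hvv, hvu⟩ : ∃ v ∈ P, H v v = 0 ∧ H (u' - z) v ≠ 0 := by
      by_contra hc
      push Not at hc
      obtain ⟨x, hx, hxy⟩ := hP _ hu0' hne
      have := mem_of_iso K hP hPd (P := orth K (Submodule.span F {u' - z}))
        (fun v hv hvv b hb => by
          obtain ⟨c, rfl⟩ := Submodule.mem_span_singleton.1 hb
          rw [h_smul_left K, hc v hv hvv, mul_zero]) hx
      exact hxy (this _ (Submodule.mem_span_singleton_self _))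
    obtain ⟨θ, hθ0, hθ⟩ := exists_skew K
    obtain ⟨s, hs⟩ := exists_T K hvv hθ
    have hs' : ∀ x, app (s : L) x = x + (θ * H x v) • v := hs.2.2
    have huv : H u' v ≠ 0 := by
      rw [← add_sub_cancel z u', h_add_left K, hv z hz, zero_add]; exact hvu
    have h1 := Cmove s (by rw [hs', hPa v hv, mul_zero, zero_smul, add_zero]) u' hu'C
    have h2 := Csub _ _ h1 hu'C
    rw [hs', add_sub_cancel_left] at h2
    refine ⟨_, P.smul_mem _ hv, smul_ne_zero (mul_ne_zero hθ0 huv) fun e => hvu (by
      rw [e, h_zero_right K]), ?_, h2⟩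
    rw [h_smul_left K, h_smul_right K, hvv, mul_zero, mul_zero]
  have haC : ∀ l : F, l • a ∈ C := by
    intro l
    obtain ⟨b₀, hb₀, hyb⟩ := hP y hy hy0
    set b := K.bar (-l / H y b₀) • b₀
    have hb : b ∈ P := P.smul_mem _ hb₀
    have hyb' : H y b = -l := by rw [h_smul_right K, K.bar_bar, div_mul_cancel₀ _ hyb]
    obtain ⟨c, hc⟩ := (Unitary.space (n := n) K).tr b
    replace hc : H b b + 1 * c + K.bar c = 0 := hc
    rw [one_mul] at hc
    obtain ⟨h, hh⟩ := exists_siegel K (by omega) haa (h_eq_zero_symm K (hPa b hb)) hc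
    have e : ∀ x, app (h : L) x = x + H x a • b - H x b • a + (c * H x a) • a := hh
    have h1 := Cmove h (by rw [e, haa, hPa b hb]; module) y hyC
    have h2 := Csub _ _ h1 hyC
    rw [e, hyb', h_eq_zero_symm K (hPa y hy)] at h2
    convert h2 using 1
    module
  have hR : ∀ b, H b b = 0 → ∀ m : F, ∃ s ∈ M, ∀ x, app s x = x + (m * H x b) • b := by
    intro b hbb m
    by_cases hb0 : b = 0
    · exact ⟨1, M.one_mem, fun x => by rw [app_one, hb0, smul_zero, add_zero]⟩
    obtain ⟨g, -, hg⟩ := exists_move_norm K (top_nondeg K)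
      (by rw [finrank_top, Module.finrank_fin_fun]; omega) (Submodule.mem_top (x := a))
      (Submodule.mem_top (x := b)) ha0 hb0 (haa.trans hbb.symm)
    obtain ⟨-, s, hs, hsy⟩ := haC (K.bar m)
    have h1 := isTr_conj K (g := (g : L)) g.2 hsy
    have hg' : app (g : L) a = b := hg
    rw [hg', app_smul, hg'] at h1
    exact ⟨_, M.mul_mem (M.mul_mem (hM (coe_mem_sim g)) hs) (M.inv_mem (hM (coe_mem_sim g))),
      fun x => by rw [h1, h_smul_right K, K.bar_bar]⟩
  obtain ⟨t, ht⟩ : ∃ t : F, K.bar t ≠ t := by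
    by_contra hall
    push Not at hall
    have hsub : ∀ z : {a : F // a * K.bar a = 1}, z.1 = 1 ∨ z.1 = -1 := fun z => by
      have h := z.2
      rw [hall z] at h
      exact mul_self_eq_one_iff.1 h
    have h2 : Nat.card {a : F // a * K.bar a = 1} ≤ 2 := by
      classical
      refine (Nat.card_le_card_of_injective (fun z => if z.1 = 1 then (0 : Fin 2) else 1)
        fun z z' e => Subtype.ext ?_).trans (by simp)
      rcases hsub z with h | h <;> rcases hsub z' with h' | h' <;> simp_all
    rw [Herm.card_norm_one K] at h2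
    have := K.two_le
    omega
  have hPiso : ∀ p ∈ P, H p p = 0 → ∀ l : F, l • p ∈ C := by
    intro p hp hpp l
    have hap : H a p = 0 := hPa p hp
    have hpa : H p a = 0 := h_eq_zero_symm K hap
    -- the mixed parts
    have mixed : ∀ k m : F, ∃ s ∈ M, ∀ x, app s x =
        x + (m * k * H x a) • p + (m * K.bar k * H x p) • a := by
      intro k m
      have hk : H (a + k • p) (a + k • p) = 0 := by
        simp only [h_add_left K, h_add_right K, h_smul_left K, h_smul_right K, haa, hpp, hap, hpa,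
          mul_zero, add_zero]
      have hkp : H (k • p) (k • p) = 0 := by rw [h_smul_left K, h_smul_right K, hpp, mul_zero, mul_zero]
      obtain ⟨s₁, hs₁, e₁⟩ := hR _ hk m
      obtain ⟨s₂, hs₂, e₂⟩ := hR a haa (-m)
      obtain ⟨s₃, hs₃, e₃⟩ := hR _ hkp (-m)
      refine ⟨s₁ * s₂ * s₃, M.mul_mem (M.mul_mem hs₁ hs₂) hs₃, fun x => ?_⟩
      rw [app_mul, app_mul, e₃, e₂, e₁]
      simp only [h_add_left K, h_add_right K, h_smul_left K, h_smul_right K, haa, hpp, hap, hpa,
        mul_zero, add_zero]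
      module
    obtain ⟨d, hd⟩ : ∃ d : F, d = t - K.bar t := ⟨_, rfl⟩
    have hd0 : d ≠ 0 := by rw [hd]; exact sub_ne_zero.2 (Ne.symm ht)
    obtain ⟨s, hs, es⟩ := mixed 1 (K.bar l / d * t)
    obtain ⟨s', hs', es'⟩ := mixed t (-(K.bar l / d))
    refine ⟨by rw [h_smul_right K, hap, mul_zero], s * s', M.mul_mem hs hs', fun x => ?_⟩
    rw [app_mul, es', es, h_smul_right K]
    simp only [h_add_left K, h_smul_left K, haa, hpp, hap, hpa, mul_zero, add_zero, map_one]
    match_scalars <;> field_simp <;> (try rw [hd]) <;> ring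
  let CS : Submodule F (Fin n → F) :=
    { carrier := {z | ∀ l : F, l • z ∈ C}
      add_mem' := fun {x y} hx hy l => by rw [smul_add]; exact Cadd _ _ (hx l) (hy l)
      zero_mem' := fun l => by rw [smul_zero]; simpa using Csub _ _ hyC hyC
      smul_mem' := fun c x hx l => by rw [smul_smul]; exact hx _ }
  have hPC : P ≤ CS := mem_of_iso K hP hPd fun v hv hvv l => hPiso v hv hvv l
  have hperp : ∀ z, H a z = 0 → z ∈ C := by
    intro z hz
    obtain ⟨s, hs, hzs⟩ := exists_split K hS z
    have hs' : s ∈ Submodule.span F {a, a'} := by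
      rwa [hpair] at hs
    obtain ⟨α, β, hab⟩ := Submodule.mem_span_pair.1 hs'
    have h0 := hPa _ hzs
    rw [← hab, h_sub_right K, hz, h_add_right K, h_smul_right K, h_smul_right K, haa, haa', mul_zero,
      zero_add, mul_one, zero_sub, neg_eq_zero] at h0
    rw [(map_eq_zero K.bar).1 h0, zero_smul, add_zero] at hab
    rw [← add_sub_cancel s z, ← hab]
    exact Cadd _ _ (haC α) (by simpa using hPC (hab ▸ hzs) 1)
  refine eq_top_of_centres (by omega) (eq_top_iff.2 fun x _ => ?_)
  refine sub_mem_iso_span K (top_nondeg K) (by rw [finrank_top, Module.finrank_fin_fun]; omega)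
    (fun b _ hbb φ h => ?_) (Submodule.mem_top (x := x))
  by_cases hb0 : b = 0
  · subst hb0
    have : tv (0 : Fin n → F) φ h = 1 := ext_app fun x => by rw [app_tv, smul_zero, add_zero, app_one]
    rw [this]; exact M.one_mem
  obtain ⟨m, -, hm⟩ := exists_move_norm K (top_nondeg K)
    (by rw [finrank_top, Module.finrank_fin_fun]; omega) (Submodule.mem_top (x := a))
    (Submodule.mem_top (x := b)) ha0 hb0 (haa.trans hbb.symm)
  obtain ⟨z, hz⟩ := exists_repr K
    { toFun := fun x => φ ⬝ᵥ x
      map_add' := fun x y => dotProduct_add _ _ _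
      map_smul' := fun c x => by simp [dotProduct_smul] }
  have hbz : H b z = 0 := (hz b).trans h
  have hm' : app (m : L) a = b := hm
  set z' := app (m : L)⁻¹ z
  have hz' : app (m : L) z' = z := app_inv' _ _
  have haz : H a z' = 0 := by
    have := m.2 a z'
    change H (app (m : L) a) (app (m : L) z') = H a z' at this
    rw [hm', hz', hbz] at this
    exact this.symm
  obtain ⟨-, s, hs, hsz⟩ := hperp z' haz
  have h1 := isTr_conj K (g := (m : L)) m.2 hsz
  rw [hm', hz'] at h1
  have : tv b φ h = (m : L) * s * (m : L)⁻¹ := ext_app fun x => by rw [h1, app_tv, hz]; rfl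
  rw [this]
  exact M.mul_mem (M.mul_mem (hM (coe_mem_sim m)) hs) (M.inv_mem (hM (coe_mem_sim m)))

theorem exists_notMem_sim (hn : 4 ≤ n) : ∃ g : L, g ∉ sim (n := n) q := by
  obtain ⟨a, -, ha0, haa⟩ := exists_isotropic_ne K (P := (⊤ : Submodule F (Fin n → F)))
    (by rw [finrank_top, Module.finrank_fin_fun]; omega)
  obtain ⟨a', ha', haa'⟩ := (Unitary.space (n := n) K).exists_partner haa ha0
  replace haa' : H a a' = 1 := haa'
  obtain ⟨x, hx, hxS⟩ : ∃ x, x ∈ (⊤ : Submodule F (Fin n → F)) ⊓ orth K (Submodule.span F (Set.range ![a, a'])) ∧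
      x ∉ Submodule.span F (Set.range ![a, a']) := by
    set S := Submodule.span F (Set.range ![a, a']) with hSdef
    replace ha' : H a' a' = 0 := ha'
    have ha'a : H a' a = 1 := by rw [h_swap K a a', haa', map_one]
    have hS : Nondeg (q := q) S := by
      intro x hx hx0
      rw [hSdef, show Set.range ![a, a'] = ({a, a'} : Set (Fin n → F)) by simp [Set.pair_comm]] at hx
      obtain ⟨α, β, rfl⟩ := Submodule.mem_span_pair.1 hx
      by_cases hα : α = 0
      · refine ⟨a, Submodule.subset_span ⟨0, rfl⟩, ?_⟩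
        rw [h_add_left K, h_smul_left K, h_smul_left K, haa, ha'a, mul_zero, zero_add, mul_one]
        intro hβ
        exact hx0 (by rw [hα, hβ, zero_smul, zero_smul, add_zero])
      · refine ⟨a', Submodule.subset_span ⟨1, rfl⟩, ?_⟩
        rw [h_add_left K, h_smul_left K, h_smul_left K, ha', haa', mul_zero, add_zero, mul_one]
        exact hα
    have h1 := finrank_orth K hS
    have h2 : Module.finrank F S ≤ 2 :=
      (finrank_range_le_card (R := F) ![a, a']).trans_eq (Fintype.card_fin 2)
    obtain ⟨x, hx, hx0, -⟩ := exists_isotropic_ne K (P := orth K S)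
      (show 2 ≤ Module.finrank F (orth K S) by omega)
    exact ⟨x, ⟨Submodule.mem_top, hx⟩, fun h =>
      hx0 ((Submodule.eq_bot_iff _).1 (isCompl_orth K hS).inf_eq_bot x ⟨h, hx⟩)⟩
  obtain ⟨p, -, hpa, hpa', hpp⟩ := exists_aniso_perp' K (top_nondeg K) (Submodule.mem_top (x := a))
    (Submodule.mem_top (x := a')) hx hxS
  obtain ⟨g, hg⟩ := exists_isTr K (h_eq_zero_symm K hpa)
  refine ⟨g, fun ⟨c, hc⟩ => ?_⟩
  have hga : app g a = a := by rw [hg, h_eq_zero_symm K hpa, zero_smul, add_zero]
  have hga' : app g a' = a' := by rw [hg, h_eq_zero_symm K hpa', zero_smul, add_zero]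
  have h1 := hc a a'
  rw [hga, hga', haa', mul_one] at h1
  have h2 := hc p a'
  rw [hga', hg, h_add_left K, h_smul_left K, haa', ← h1, one_mul, mul_one, add_eq_left] at h2
  exact hpp h2

theorem isMaximalIn_std (hn : 4 ≤ n) :
    Cfsg.Geo.IsMaximalIn (Cfsg.Geo.specialLinear (Fin n) F)
      (Cfsg.Geo.similarityGroup (hermForm n F q) ⊓ Cfsg.Geo.specialLinear (Fin n) F) := by
  refine ⟨lt_of_le_not_ge inf_le_right fun h => ?_, fun M hM hM' => ?_⟩
  · obtain ⟨g, hg⟩ := exists_notMem_sim K hn
    exact hg ((mem_similarityGroup_iff g).1 (h (mem_specialLinear.2 ⟨g, rfl⟩)).1)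
  rcases sim_le_or_top K hn (M.comap SpecialLinearGroup.toGL) (fun g hg =>
      hM ⟨(mem_similarityGroup_iff g).2 hg, mem_specialLinear.2 ⟨g, rfl⟩⟩) with h | h
  · refine Or.inr (le_antisymm hM' fun g hg => ?_)
    obtain ⟨s, rfl⟩ := mem_specialLinear.1 hg
    have : s ∈ M.comap SpecialLinearGroup.toGL := h ▸ Subgroup.mem_top s
    exact this
  · refine Or.inl (le_antisymm (fun g hg => ?_) hM)
    obtain ⟨s, rfl⟩ := mem_specialLinear.1 (hM' hg)
    exact ⟨(mem_similarityGroup_iff s).2 (h hg), mem_specialLinear.2 ⟨s, rfl⟩⟩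

omit K

theorem isMaximalIn (hn : 4 ≤ n) (σ : F ≃+* F) (f : (Fin n → F) → (Fin n → F) → F)
    (hf : Cfsg.Geo.IsUnitaryForm σ f) :
    Cfsg.Geo.IsMaximalIn (Cfsg.Geo.specialLinear (Fin n) F)
      (Cfsg.Geo.similarityGroup f ⊓ Cfsg.Geo.specialLinear (Fin n) F) := by
  obtain ⟨q, ⟨K⟩, P, hP⟩ := exists_coord σ f hf
  have h := isMaximalIn_map (MulAut.conj P) (isMaximalIn_std K hn)
  have hinv : ∀ x, f x = fun y => hermForm n F q (((P⁻¹ : GL (Fin n) F) : Matrix (Fin n) (Fin n) F) *ᵥ x)
      (((P⁻¹ : GL (Fin n) F) : Matrix (Fin n) (Fin n) F) *ᵥ y) := fun x => funext fun y => by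
    rw [← hP, mulVec_mulVec, mulVec_mulVec, ← Units.val_mul, mul_inv_cancel, Units.val_one,
      one_mulVec, one_mulVec]
  have hSL : (Cfsg.Geo.specialLinear (Fin n) F).map (MulAut.conj P).toMonoidHom =
      Cfsg.Geo.specialLinear (Fin n) F := by
    have hN : (Cfsg.Geo.specialLinear (Fin n) F).Normal := MonoidHom.normal_ker _
    refine le_antisymm ?_ fun g hg => ⟨P⁻¹ * g * P, ?_, ?_⟩
    · rintro _ ⟨g, hg, rfl⟩
      exact hN.conj_mem g hg P
    · simpa using hN.conj_mem g hg P⁻¹
    · show P * (P⁻¹ * g * P) * P⁻¹ = g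
      group
  have hsim : (Cfsg.Geo.similarityGroup (hermForm n F q) ⊓ Cfsg.Geo.specialLinear (Fin n) F).map
      (MulAut.conj P).toMonoidHom =
      Cfsg.Geo.similarityGroup f ⊓ Cfsg.Geo.specialLinear (Fin n) F := by
    rw [Subgroup.map_inf _ _ _ (MulAut.conj P).injective, hSL]
    congr 1
    ext g
    constructor
    · rintro ⟨k, ⟨c, hc⟩, rfl⟩
      refine ⟨c, fun x y => ?_⟩
      show f (((P * k * P⁻¹ : GL (Fin n) F) : Matrix (Fin n) (Fin n) F) *ᵥ x)
        (((P * k * P⁻¹ : GL (Fin n) F) : Matrix (Fin n) (Fin n) F) *ᵥ y) = _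
      rw [Units.val_mul, Units.val_mul, ← mulVec_mulVec, ← mulVec_mulVec, ← mulVec_mulVec,
        ← mulVec_mulVec, hP, hc, hinv x]
    · rintro ⟨c, hc⟩
      refine ⟨P⁻¹ * g * P, ⟨c, fun x y => ?_⟩, by show P * (P⁻¹ * g * P) * P⁻¹ = g; group⟩
      rw [← hP, ← hP, Units.val_mul, Units.val_mul, mulVec_mulVec, mulVec_mulVec, ← mul_assoc,
        ← mul_assoc, ← Units.val_mul, mul_inv_cancel, Units.val_one, one_mul, ← mulVec_mulVec,
        ← mulVec_mulVec, hc]
  rwa [hSL, hsim] at h

end CfsgLib.Classical.HermSimFour
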