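import Cfsg.Agent.Lib.Classical.SLFour.MonFour

set_option autoImplicit false
set_option linter.unusedSectionVars false

/-!
The stabiliser of a decomposition of a four space into lines is maximal in `SL₄(q)` for `q ≥ 7`.
-/

namespace CfsgLib.Classical.SLFour.MonDecomp

open Matrix CfsgLib.Classical.SLMon
open CfsgLib.Classical
open scoped MatrixGroups

variable {F : Type*} [Field F] [Fintype F]

theorem le_bstab_or_top (h7 : 7 ≤ Fintype.card F)
    (K : Subgroup (SpecialLinearGroup (Fin 4 × Fin 1) F))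
    (hK : LinBlocks.bstab (F := F) (κ := Fin 4) (μ := Fin 1) ⊆ K) :
    K = ⊤ ∨ (K : Set (SpecialLinearGroup (Fin 4 × Fin 1) F)) ⊆ LinBlocks.bstab := by
  classical
  have hiff : ∀ g : SpecialLinearGroup (Fin 4 × Fin 1) F,
      MonMax.Mon g.1 ↔ g ∈ LinBlocks.bstab (F := F) (κ := Fin 4) (μ := Fin 1) := by
    intro g
    constructor
    · rintro ⟨τ, hτ⟩
      refine ⟨((Equiv.prodUnique (Fin 4) (Fin 1)).symm.trans τ).trans
        (Equiv.prodUnique (Fin 4) (Fin 1)), fun a b h => ?_⟩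
      rw [hτ a b h]
      simp [Equiv.prodUnique, Prod.ext_iff]
      rw [show b = (b.1, (0 : Fin 1)) from Prod.ext rfl (Subsingleton.elim _ _)]
    · rintro ⟨σ, hσ⟩
      exact ⟨σ.prodCongr (Equiv.refl _), fun a b h =>
        Prod.ext (hσ a b h) (Subsingleton.elim _ _)⟩
  rcases Mon.le_mons_or_top (by simp) h7 (K := K) (fun g hg => hK ((hiff g).1 hg)) with h | h
  · exact Or.inl h
  · exact Or.inr fun g hg => (hiff g).1 (h g hg)

theorem isMaximalIn {D : Fin 4 → Submodule F (Fin 4 → F)} (hq : 7 ≤ Fintype.card F)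
    (hD : Cfsg.Geo.IsMDecomposition 1 D) :
    Cfsg.Geo.IsMaximalIn (Cfsg.Geo.specialLinear (Fin 4) F)
      (Cfsg.Geo.decompositionStabilizer D ⊓ Cfsg.Geo.specialLinear (Fin 4) F) := by
  obtain ⟨-, f, -, hmem, hrange⟩ := DecompMax.exists_model hD
  refine ⟨lt_of_le_not_ge inf_le_right fun hle => ?_, fun M hM hM' => ?_⟩
  · have hm := hD.pos
    let a : Fin 4 × Fin 1 := (⟨0, by omega⟩, ⟨0, hm⟩)
    let b : Fin 4 × Fin 1 := (⟨1, by omega⟩, ⟨0, hm⟩)
    have hab : a.1 ≠ b.1 := by simp [a, b]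
    obtain ⟨σ, hσ⟩ := (hmem (SpecialLinearGroup.transvection
      (show a ≠ b from fun e => hab (by rw [e])) (1 : F))).1 (hle ((hrange _).2 ⟨_, rfl⟩)).1
    have hne : a ≠ b := fun e => hab (by rw [e])
    refine hab ?_
    rw [hσ b b (by simp [SpecialLinearGroup.transvection_coe, Matrix.transvection, Ne.symm hne, hne]),
      hσ a b (by simp [SpecialLinearGroup.transvection_coe, Matrix.transvection, Ne.symm hne, hne])]
  rcases le_bstab_or_top hq (M.comap f) (fun g hg =>
      hM ⟨(hmem g).2 hg, (hrange _).2 ⟨g, rfl⟩⟩) with h | h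
  · refine Or.inr (le_antisymm hM' fun g hg => ?_)
    obtain ⟨s, rfl⟩ := (hrange g).1 hg
    have : s ∈ M.comap f := h ▸ Subgroup.mem_top s
    exact this
  · refine Or.inl (le_antisymm (fun g hg => ?_) hM)
    obtain ⟨s, rfl⟩ := (hrange g).1 (hM' hg)
    exact ⟨(hmem s).2 (h hg), (hrange _).2 ⟨s, rfl⟩⟩


end CfsgLib.Classical.SLFour.MonDecomp
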