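import Cfsg.Agent.Lib.Classical.DecompMax

set_option autoImplicit false
set_option linter.unusedSectionVars false

/-!
The monomial subgroup of `SL(ι, F)` with four coordinates is maximal for `|F| ≥ 7`: an element with a zero entry
is monomial, and a count of the points of a torus orbit on a hyperplane produces such an element.
-/

namespace CfsgLib.Classical.SLFour.Mon

open Matrix CfsgLib.Classical.SLMon
open CfsgLib.Classical.MonMax (Mon mons mons_pmat mem_mons dia dia_mem prod_two mon_pmat trs InT_neg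
  InT_smul_left InT_conj' sep exists_third top_of_root levi levi_mul levi_one eq_levi_mul Fixes mul_inv_val inv_mul_val exists_hq perm_unique)
open CfsgLib.Classical
open scoped MatrixGroups

variable {ι F : Type*} [Fintype ι] [DecidableEq ι] [Field F] [Fintype F] [DecidableEq F]
variable {K : Subgroup (SpecialLinearGroup ι F)}

section
variable (hq : ∃ a : F, a ≠ 0 ∧ a ≠ 1) (hι : 4 ≤ Fintype.card ι)
include hq hι

theorem top_of_elation (hK : mons ≤ K) {j : ι} {ρ : ι → F} (hρ : ρ ≠ 0)
    (h : InT K (Pi.single j 1) ρ) : K = ⊤ := by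
  obtain ⟨a, ha0, ha1⟩ := hq
  have ha : a⁻¹ - 1 ≠ 0 := sub_ne_zero.2 fun e => ha1 (inv_eq_one.1 e)
  obtain ⟨l, hl⟩ := Function.ne_iff.1 hρ
  have hl0 : ρ l ≠ 0 := hl
  have hlj : l ≠ j := by
    rintro rfl
    obtain ⟨h0, -⟩ := h
    simp at h0
    exact hl0 h0
  obtain ⟨o, hoj, hol, -⟩ := exists_third (by omega) j l j
  let d := Function.update (Function.update (fun _ => (1 : F)) l a) o a⁻¹
  have h1 := sep hK h (d := d) (by rw [prod_two hol.symm, inv_mul_cancel₀ ha0])
    (by simp [d, hoj.symm, hlj.symm])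
  by_cases hro : ρ o = 0
  · refine top_of_root (by omega) hK hlj.symm (mul_ne_zero hl0 ha) ?_
    convert h1 using 1
    funext k
    rcases eq_or_ne k l with rfl | e
    · simp [d, hol.symm]
    · rcases eq_or_ne k o with rfl | e'
      · simp [e, hro]
      · simp [d, e, e']
  · obtain ⟨o', ho'j, ho'l, ho'o⟩ := exists_third (by omega) j l o
    let d' := Function.update (Function.update (fun _ => (1 : F)) o a) o' a⁻¹
    have h2 := sep hK h1 (d := d') (by rw [prod_two ho'o.symm, inv_mul_cancel₀ ha0])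
      (by simp [d', hoj.symm, ho'j.symm])
    refine top_of_root (by omega) hK hoj.symm
      (mul_ne_zero (mul_ne_zero hro (sub_ne_zero.2 (fun e => ha1 (by simpa using e) : (a⁻¹)⁻¹ ≠ 1))) ha) ?_
    convert h2 using 1
    funext k
    rcases eq_or_ne k o with rfl | e
    · simp [d, d', ho'o.symm]
    · rcases eq_or_ne k o' with rfl | e'
      · simp [e, d, ho'l]
      · simp [d', e, e']

/-- A non-monomial element fixing a coordinate line gives everything. -/
theorem top_of_fix (hsq : ∃ b : F, b ≠ 0 ∧ b * b ≠ 1) (h5 : 5 ≤ Fintype.card F) (hK : mons ≤ K) {j : ι}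
    {x : SpecialLinearGroup ι F} (hx : x ∈ K) (hfix : Fixes j x.1) (hmon : ¬ Mon x.1) : K = ⊤ := by
  obtain ⟨a, ha0, ha1⟩ := hq
  set r : ι → F := fun l => x.1 j l - (Pi.single j (1 : F) : ι → F) l with hr
  have hdec : x.1 = levi j x.1 * R (Pi.single j 1) r := eq_levi_mul hfix
  have hrj : r j = x.1 j j - 1 := by simp [r]
  have hdet : (levi j x.1).det * x.1 j j = 1 := by
    have := congrArg Matrix.det hdec
    rw [x.2, det_mul, det_R, dotProduct_single, mul_one, hrj, add_sub_cancel] at this
    exact this.symm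
  have hxjj : x.1 j j ≠ 0 := right_ne_zero_of_mul_eq_one hdet
  by_cases hL : Mon (levi j x.1)
  · -- `x` is monomial times an elation
    obtain ⟨τ, hτ⟩ := hL
    set lam := x.1 j j
    let y0 := levi j x.1 * R ((lam - 1) • Pi.single j 1) (Pi.single j 1)
    have hy0 : y0.det = 1 := by
      simp only [y0]
      rw [det_mul, det_R, dotProduct_smul, single_dotProduct, Pi.single_eq_same, one_mul,
        smul_eq_mul, mul_one, add_sub_cancel, hdet]
    have hymon : Mon y0 := by
      refine Mon.mul ⟨τ, hτ⟩ ⟨1, fun k l h => ?_⟩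
      by_contra e
      have e : k ≠ l := e
      simp only [R, Matrix.add_apply, Matrix.one_apply_ne e, vecMulVec_apply, zero_add] at h
      rcases eq_or_ne k j with rfl | e'
      · simp [e.symm] at h
      · simp [e'] at h
    let y : SpecialLinearGroup ι F := ⟨y0, hy0⟩
    set r' : ι → F := lam⁻¹ • (r - (lam - 1) • Pi.single j 1)
    have hr'j : r' j = 0 := by simp [r', hrj]
    have hperp : r' ⬝ᵥ Pi.single j 1 = 0 := by simp [hr'j]
    have hxy : x = y * Tv (Pi.single j 1) r' hperp := by
      refine Subtype.ext (hdec.trans ?_)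
      show _ = (levi j x.1 * R ((lam - 1) • Pi.single j 1) (Pi.single j 1)) * R (Pi.single j 1) r'
      rw [mul_assoc, R_smul, SLMon.R_mul]
      congr 1
      rw [R]
      ext k l
      simp [vecMulVec_apply, r', smul_dotProduct]
      field_simp
      ring
    have hT : InT K (Pi.single j 1) r' := by
      refine ⟨hperp, ?_⟩
      have : Tv (Pi.single j 1) r' hperp = y⁻¹ * x := by rw [hxy, inv_mul_cancel_left]
      rw [this]
      exact K.mul_mem (K.inv_mem (hK hymon)) hx
    refine top_of_elation ⟨a, ha0, ha1⟩ hι hK (fun e => hmon ?_) hT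
    rw [hxy]
    show Mon (y0 * R (Pi.single j 1) r')
    rw [e, R_zero_right, mul_one]
    exact hymon
  -- the image of the stabiliser
  let L : Set (Matrix ι ι F) := {B | ∃ z : SpecialLinearGroup ι F, z ∈ K ∧ Fixes j z.1 ∧ levi j z.1 = B}
  have hbig : HomRoot.Big j L := by
    refine ⟨?_, fun k hk => ⟨by simp, by simp [hk.symm], by simp [hk.symm], fun b hb => ?_⟩,
      fun k l hk hl => ?_⟩
    · rintro _ ⟨z, hz, fz, rfl⟩ _ ⟨z', hz', fz', rfl⟩
      exact ⟨z * z', K.mul_mem hz hz', fz.mul fz', levi_mul fz⟩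
    · let D := Function.update (Function.update (fun _ => (1 : F)) k b) j b⁻¹
      have hD : ∏ m, D m = 1 := by rw [prod_two hk, inv_mul_cancel₀ hb]
      refine ⟨dia D hD, hK (dia_mem D hD), fun m hm => diagonal_apply_ne D hm, ?_⟩
      ext p q
      simp only [levi, dia, R, Matrix.add_apply, vecMulVec_apply, Pi.smul_apply, smul_eq_mul]
      rcases eq_or_ne p q with rfl | hpq
      · rcases eq_or_ne p j with rfl | hpj
        · simp [hk.symm]
        · rcases eq_or_ne p k with rfl | hpk
          · simp [D, hpj]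
          · simp [D, hpj, hpk]
      · rw [diagonal_apply_ne _ hpq, Matrix.one_apply_ne hpq]
        rcases eq_or_ne p k with rfl | hpk
        · rcases eq_or_ne q j with rfl | hqj <;> simp [hk, hpq.symm, *]
        · rcases eq_or_ne p j with rfl | hpj
          · simp [hpk, hpq.symm]
          · simp [hpk, hpj]
    · obtain ⟨s, d, hs, hd, -⟩ := exists_pmat_SL (F := F) (Equiv.swap k l) j
      have hj : Equiv.swap k l j = j := Equiv.swap_apply_of_ne_of_ne hk.symm hl.symm
      refine ⟨s, hK (mons_pmat hs), fun m hm => by rw [hs, pmat_apply, hj, if_neg hm], ?_⟩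
      ext p q
      rw [hs]
      rcases eq_or_ne q j with rfl | hq'
      · simp only [levi, pmat_apply, hj, if_true]
      · simp only [levi, pmat_apply, hq', if_false, hd q hq']
        by_cases hp : p = j
        · subst hp
          have hne : p ≠ Equiv.swap k l q := fun e => hq'
            ((Equiv.swap k l).injective (e.symm.trans hj.symm))
          simp [hne]
        · simp [hp]
  have hB' : levi j (x⁻¹).1 * levi j x.1 = 1 := by
    rw [← levi_mul hfix.inv, show (x⁻¹).1 * x.1 = 1 from
      congrArg Subtype.val (inv_mul_cancel x), levi_one]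
  have hB : levi j x.1 * levi j (x⁻¹).1 = 1 := by
    rw [← levi_mul hfix, show x.1 * (x⁻¹).1 = 1 from
      congrArg Subtype.val (mul_inv_cancel x), levi_one]
  set B := levi j x.1
  set B' := levi j (x⁻¹).1
  -- a column with two entries
  obtain ⟨k, p, q, hpq, hp, hq'⟩ : ∃ k p q, p ≠ q ∧ B p k ≠ 0 ∧ B q k ≠ 0 := by
    by_contra hn
    push Not at hn
    have hne : ∀ k, ∃ p, B p k ≠ 0 := by
      intro k
      by_contra h
      push Not at h
      have := det_eq_zero_of_column_eq_zero k h
      rw [this, zero_mul] at hdet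
      exact zero_ne_one hdet
    choose f hf using hne
    have hinj : Function.Injective f := by
      intro k k' e
      by_contra hkk
      have hs : ∀ b c, (B' * B) b c = B' b (f c) * B (f c) c := fun b c => by
        rw [Matrix.mul_apply, Finset.sum_eq_single (f c)]
        · intro d _ hd
          rw [show B d c = 0 by by_contra h; exact hd (by_contra fun hne => h (hn c (f c) d (Ne.symm hne) (hf c))), mul_zero]
        · simp
      have h1 := hs k' k
      have h2 := hs k' k'
      rw [hB', Matrix.one_apply_ne (Ne.symm hkk), e] at h1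
      rw [hB', Matrix.one_apply_eq] at h2
      rw [eq_comm, mul_eq_zero] at h1
      rcases h1 with h1 | h1
      · rw [h1, zero_mul] at h2
        exact one_ne_zero h2
      · exact hf k (e ▸ h1)
    refine hL ⟨Equiv.ofBijective f (Finite.injective_iff_bijective.1 hinj), fun p k h => ?_⟩
    by_contra e
    exact h (hn k (f k) p (Ne.symm e) (hf k))
  have hkj : k ≠ j := by
    rintro rfl
    have hz : ∀ m, m ≠ k → B m k = 0 := fun m hm => by simp [B, levi, hm]
    rcases eq_or_ne p k with rfl | e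
    · exact hq' (hz q hpq.symm)
    · exact hp (hz p e)
  have hhom : HomRoot.Hom j L (B *ᵥ Pi.single k 1) (Pi.single k 1 ᵥ* B') := by
    refine ⟨?_, ?_, ?_, fun b hb => ?_⟩
    · rw [dotProduct_mulVec, vecMul_vecMul, hB', vecMul_one, single_dotProduct, one_mul,
        Pi.single_eq_same]
    · simp [B, levi, hkj]
    · simp [B', levi, hkj, single_vecMul]
    · have hm := hbig.mul _ (hbig.mul _ ⟨x, hx, hfix, rfl⟩ _ ((hbig.dg k hkj).2.2.2 b hb)) _
        ⟨x⁻¹, K.inv_mem hx, hfix.inv, rfl⟩
      rw [conj_R hB, mulVec_smul] at hm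
      exact hm
  obtain ⟨i, l, hil, hij, hlj, c, hc, z, hz, fz, hzl⟩ :=
    HomRoot.root_of_hom ⟨a, ha0, ha1⟩ h5 (by omega) hbig _ _ _ le_rfl hhom p q hpq
      (by simpa [mulVec_single_one] using hp) (by simpa [mulVec_single_one] using hq')
  -- lift the root element
  set ρ : ι → F := fun m => z.1 j m - (Pi.single j (1 : F) : ι → F) m with hρ
  have hdz : z.1 = R (Pi.single i 1) (c • Pi.single l 1) * R (Pi.single j 1) ρ := by
    rw [← hzl]; exact eq_levi_mul fz
  have hρj : ρ j = 0 := by
    have := congrArg Matrix.det hdz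
    rw [z.2, det_mul, det_R, det_R] at this
    simp [hil] at this
    exact this
  have hperp : ρ ⬝ᵥ Pi.single j 1 = 0 := by simp [hρj]
  have lift : ∀ d : ι → F, ∏ m, d m = 1 → d j = 1 → d i = d l →
      InT K (Pi.single j 1) (fun m => ρ m * ((d m)⁻¹ - 1)) := by
    intro d hd hdj hdil
    have hne : ∀ m, d m ≠ 0 := fun m e => by
      rw [Finset.prod_eq_zero (Finset.mem_univ m) e] at hd
      exact zero_ne_one hd
    set s := dia d hd
    set ρ' : ι → F := fun m => ρ m * (d m)⁻¹
    have hp' : ρ' ⬝ᵥ Pi.single j 1 = 0 := by simp [ρ', hρj]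
    have e0 : c • (Pi.single l 1 : ι → F) ⬝ᵥ Pi.single i 1 = 0 := by simp [hil]
    have ez : z = Tv (Pi.single i 1) (c • Pi.single l 1) (by simp [hil]) *
        Tv (Pi.single j 1) ρ hperp := Subtype.ext hdz
    have hs : ∀ (u φ ψ : ι → F) (h1 : φ ⬝ᵥ u = 0) (h2 : ψ ⬝ᵥ u = 0) (u2 : ι → F),
        diagonal d *ᵥ u = u2 → ψ ᵥ* diagonal d = φ → u2 = u →
        s * Tv u φ h1 = Tv u ψ h2 * s := by
      intro u φ ψ h1 h2 u2 hu hψ hu2
      subst hu2
      refine Subtype.ext ?_
      show diagonal d * R u2 φ = R u2 ψ * diagonal d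
      simp only [R, mul_add, add_mul, mul_one, one_mul, Matrix.mul_vecMulVec,
        Matrix.vecMulVec_mul, hu, hψ]
    have c2 : s * Tv (Pi.single j 1) ρ hperp = Tv (Pi.single j 1) ρ' hp' * s := by
      refine hs _ _ _ _ _ _ rfl ?_ ?_
      · funext m
        rw [vecMul_diagonal]
        simp [ρ', mul_assoc, inv_mul_cancel₀ (hne m)]
      · funext m
        rw [mulVec_diagonal]
        rcases eq_or_ne m j with rfl | e <;> simp [*]
    have c1 : s * Tv (Pi.single i 1) (c • Pi.single l 1) (by simp [hil]) =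
        Tv (Pi.single i 1) (c • Pi.single l 1) (by simp [hil]) * s := by
      refine Subtype.ext ?_
      show diagonal d * R (Pi.single i 1) _ = R (Pi.single i 1) _ * diagonal d
      simp only [R, mul_add, add_mul, mul_one, one_mul, Matrix.mul_vecMulVec,
        Matrix.vecMulVec_mul]
      congr 1
      ext m m'
      simp only [vecMulVec_apply, mulVec_diagonal, vecMul_diagonal, Pi.smul_apply, smul_eq_mul]
      rcases eq_or_ne m i with rfl | e
      · rcases eq_or_ne m' l with rfl | e'
        · simp [hdil]; ring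
        · simp [e']
      · simp [e]
    have key : z⁻¹ * (s * z * s⁻¹) = (Tv (Pi.single j 1) ρ hperp)⁻¹ * Tv (Pi.single j 1) ρ' hp' := by
      rw [ez, ← mul_assoc s, c1, mul_assoc (Tv (Pi.single i 1) _ _) s, c2]
      group
    have hm : (Tv (Pi.single j 1) ρ hperp)⁻¹ * Tv (Pi.single j 1) ρ' hp' ∈ K :=
      key ▸ K.mul_mem (K.inv_mem hz) (K.mul_mem (K.mul_mem (hK (dia_mem d hd)) hz)
        (K.inv_mem (hK (dia_mem d hd))))
    refine ⟨by simp [hρj], ?_⟩
    convert hm using 1
    refine Subtype.ext ?_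
    show R _ _ = ((Tv (Pi.single j 1) ρ hperp)⁻¹).1 * R _ _
    rw [inv_Tv, R_mul_same_left _ _ _ (by simp [hρj])]
    congr 1
    funext m
    simp [ρ']; ring
  have ha : a⁻¹ - 1 ≠ 0 := sub_ne_zero.2 fun e => ha1 (inv_eq_one.1 e)
  by_cases ho : ∃ o, o ≠ i ∧ o ≠ l ∧ ρ o ≠ 0
  · obtain ⟨o, hoi, hol, hro⟩ := ho
    have hoj : o ≠ j := fun e => hro (e ▸ hρj)
    obtain ⟨b, hb0, hb⟩ := hsq
    let d := Function.update (Function.update (Function.update (fun _ => (1 : F)) i b) l b) o (b * b)⁻¹
    have hd : ∏ m, d m = 1 := by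
      rw [Finset.prod_update_of_mem (Finset.mem_univ o)]
      rw [Finset.prod_update_of_mem (by simp [hol.symm])]
      rw [Finset.prod_update_of_mem (by simp [hoi.symm, hil])]
      simp
      field_simp
    refine top_of_elation ⟨a, ha0, ha1⟩ hι hK (fun e => ?_) (lift d hd
      (by simp [d, hij.symm, hlj.symm, hoj.symm]) (by simp [d, hil, hoi.symm, hol.symm]))
    have := congrFun e o
    simp [d] at this
    rcases this with h | h
    · exact hro h
    · exact hb (sub_eq_zero.1 h)
  push Not at ho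
  by_cases hρ0 : ρ = 0
  · refine top_of_root (by omega) hK hil hc ⟨by simp [hil], ?_⟩
    convert hz using 1
    refine Subtype.ext (Eq.symm (hdz.trans ?_))
    rw [hρ0, R_zero_right, mul_one]
    rfl
  obtain ⟨o', ho'i, ho'l, ho'j⟩ := exists_third (by omega) i l j
  let d := Function.update (Function.update (Function.update (fun _ => (1 : F)) i a) l a) o' (a * a)⁻¹
  have hd : ∏ m, d m = 1 := by
    rw [Finset.prod_update_of_mem (Finset.mem_univ o')]
    rw [Finset.prod_update_of_mem (by simp [ho'l.symm])]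
    rw [Finset.prod_update_of_mem (by simp [ho'i.symm, hil])]
    simp
    field_simp
  refine top_of_elation ⟨a, ha0, ha1⟩ hι hK (fun e => hρ0 (funext fun m => ?_)) (lift d hd
    (by simp [d, hij.symm, hlj.symm, ho'j.symm]) (by simp [d, hil, ho'i.symm, ho'l.symm]))
  by_cases hm : m = i ∨ m = l
  · have := congrFun e m
    have hdm : d m = a := by rcases hm with rfl | rfl <;> simp [d, hil, ho'i.symm, ho'l.symm]
    simp only [hdm, Pi.zero_apply, mul_eq_zero] at this
    exact this.resolve_right ha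
  · simp only [not_or] at hm
    exact ho m hm.1 hm.2

end

theorem exists_sq (h7 : 7 ≤ Fintype.card F) : ∃ b : F, b ≠ 0 ∧ b * b ≠ 1 := by
  obtain ⟨c, -, hc⟩ := Finset.exists_mem_notMem_of_card_lt_card (t := (Finset.univ : Finset F))
    (s := {0, 1, -1}) (by rw [Finset.card_univ]; exact Finset.card_le_three.trans_lt (by omega))
  simp only [Finset.mem_insert, Finset.mem_singleton, not_or] at hc
  exact ⟨c, hc.1, fun e => (mul_self_eq_one_iff.1 e).elim hc.2.1 hc.2.2⟩

variable (h7 : 7 ≤ Fintype.card F) (hι : Fintype.card ι = 4) (hK : mons ≤ K) (htop : K ≠ ⊤)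
include h7 hι hK htop

theorem mon_of_fix {x : SpecialLinearGroup ι F} (hx : x ∈ K) {j : ι} (h : Fixes j x.1) :
    Mon x.1 := by
  by_contra hm
  exact htop (top_of_fix (exists_hq (by omega)) (by omega) (exists_sq h7) (by omega) hK hx h hm)

theorem no_axis {g : SpecialLinearGroup ι F} (hg : g ∈ K) (hmon : ¬ Mon g.1) {i l0 : ι}
    (h : ∀ l, (g⁻¹).1 l i ≠ 0 → l = l0) : False := by
  obtain ⟨y, d, hy, -, -⟩ := exists_pmat_SL (F := F) (Equiv.swap i l0) i
  have hyK : y ∈ K := hK (mons_pmat hy)
  refine hmon ?_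
  have hfix : Fixes i (y * g⁻¹).1 := by
    intro k hk
    show (y.1 * (g⁻¹).1) k i = 0
    rw [hy, Matrix.mul_apply]
    refine Finset.sum_eq_zero fun l _ => ?_
    by_cases e : l = l0
    · subst e; rw [pmat_apply, Equiv.swap_apply_right, if_neg hk, zero_mul]
    · rw [show (g⁻¹).1 l i = 0 by by_contra f; exact e (h l f), mul_zero]
  have h1 := mon_of_fix h7 hι hK htop (K.mul_mem hyK (K.inv_mem hg)) hfix
  have h2 : y⁻¹ * (y * g⁻¹) ∈ (mons : Subgroup (SpecialLinearGroup ι F)) :=
    Subgroup.mul_mem _ (Subgroup.inv_mem _ (mons_pmat hy)) h1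
  rw [inv_mul_cancel_left] at h2
  exact mem_mons.1 ((Subgroup.inv_mem_iff _).1 h2)

theorem zlemma {g : SpecialLinearGroup ι F} (hg : g ∈ K) (hmon : ¬ Mon g.1) (j : ι) (Q : Finset ι)
    (hz : ∀ l ∈ Q, (g⁻¹).1 l j = 0) (h2 : 2 ≤ Q.card) : False := by
  classical
  set g' := (g⁻¹).1 with hg'
  -- conjugates of torus elements are diagonal, if they satisfy enough equations
  have conj : ∀ (d : ι → F) (hd : ∏ l, d l = 1), (∀ l, l ∉ Q → d l = 1) →
      ∃ τ : Equiv.Perm ι, ∃ e : ι → F, (g.1 * diagonal d * g') = pmat τ e ∧ ∀ l, e l ≠ 0 := by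
    intro d hd hQ
    have hfix : Fixes j (g * dia d hd * g⁻¹).1 := by
      intro k hk
      show (g.1 * diagonal d * g') k j = 0
      rw [mul_assoc, Matrix.mul_apply]
      calc _ = ∑ l, g.1 k l * g' l j := Finset.sum_congr rfl fun l _ => by
            rw [diagonal_mul]
            by_cases e : l ∈ Q
            · rw [hz l e, mul_zero]
            · rw [hQ l e, one_mul]
        _ = (g.1 * g') k j := (Matrix.mul_apply).symm
        _ = 0 := (congrFun (congrFun (mul_inv_val g) k) j).trans (Matrix.one_apply_ne hk)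
    exact (mon_of_fix h7 hι hK htop
      (K.mul_mem (K.mul_mem hg (hK (dia_mem d hd))) (K.inv_mem hg)) hfix).exists_pmat
  have rel : ∀ (d e : ι → F), g.1 * diagonal d * g' = pmat 1 e → ∀ l i, g' l i ≠ 0 → d l = e i := by
    intro d e h l i hli
    rw [pmat_diag] at h
    have h0 : g' * (g.1 * diagonal d * g') = g' * diagonal e := by rw [h]
    have h1 : (g' * (g.1 * diagonal d * g') : Matrix ι ι F) l i = (g' * diagonal e : Matrix ι ι F) l i :=
      congrFun (congrFun h0 l) i
    rw [← mul_assoc, ← mul_assoc, show g' * g.1 = 1 from inv_mul_val g, one_mul, diagonal_mul,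
      mul_diagonal] at h1
    exact mul_right_cancel₀ hli (h1.trans (mul_comm _ _))
  have sq : ∀ d d' : ι → F, (g.1 * diagonal d * g') * (g.1 * diagonal d' * g') =
      g.1 * diagonal (fun l => d l * d' l) * g' := by
    intro d d'
    rw [← diagonal_mul_diagonal]
    calc _ = g.1 * diagonal d * (g' * g.1) * diagonal d' * g' := by simp only [mul_assoc]
      _ = _ := by rw [inv_mul_val, mul_one]; simp only [mul_assoc]
  have lin : ∀ (d d' : ι → F) (α β : F), g.1 * diagonal (fun l => α * d l + β * d' l) * g' =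
      α • (g.1 * diagonal d * g') + β • (g.1 * diagonal d' * g') := by
    intro d d' α β
    rw [show diagonal (fun l => α * d l + β * d' l) = α • diagonal d + β • diagonal d' by
        ext i m; rcases eq_or_ne i m with rfl | e <;> simp [*],
      mul_add, add_mul, Matrix.mul_smul, Matrix.mul_smul,
      Matrix.smul_mul, Matrix.smul_mul]
  have one' : g.1 * diagonal (fun _ => (1 : F)) * g' = pmat 1 fun _ => 1 := by
    rw [diagonal_one, mul_one, mul_inv_val, pmat_one]
  -- a torus element with two eigenvalues `a`, `a⁻¹`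
  obtain ⟨k, hk, k', hk', hkk⟩ := Finset.one_lt_card.1 h2
  obtain ⟨u, hu⟩ := IsCyclic.exists_generator (α := Fˣ)
  have hord : orderOf u = Fintype.card F - 1 := by
    rw [orderOf_eq_card_of_forall_mem_zpowers hu, Nat.card_units, Nat.card_eq_fintype_card]
  set a : F := (u : F)
  have hpow : ∀ m : ℕ, 0 < m → m ≤ 4 → a ^ m ≠ 1 := by
    intro m hm hm4 h
    have h1 : u ^ m = 1 := Units.ext (by simpa using h)
    have := Nat.le_of_dvd hm (orderOf_dvd_of_pow_eq_one h1)
    omega
  have ha0 : a ≠ 0 := u.ne_zero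
  let d := Function.update (Function.update (fun _ => (1 : F)) k a) k' a⁻¹
  have hd : ∏ l, d l = 1 := by rw [prod_two hkk, inv_mul_cancel₀ ha0]
  obtain ⟨τ, e, hx, he⟩ := conj d hd fun l hl => by
    simp [d, show l ≠ k from fun h => hl (h ▸ hk), show l ≠ k' from fun h => hl (h ▸ hk')]
  set s := 1 + a + a⁻¹
  have hcub : (g.1 * diagonal d * g') * (g.1 * diagonal d * g') * (g.1 * diagonal d * g') =
      s • ((g.1 * diagonal d * g') * (g.1 * diagonal d * g')) +
        (1 : F) • ((-s) • (g.1 * diagonal d * g') + (1 : F) • pmat 1 fun _ => 1) := by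
    rw [← one', sq, sq, ← lin, ← lin]
    congr 3
    funext l
    rcases eq_or_ne l k' with rfl | e1
    · simp [d, s]; field_simp; ring
    rcases eq_or_ne l k with rfl | e2
    · simp [d, e1, s]; field_simp; ring
    · simp [d, e1, e2]
  have hs0 : s ≠ 0 := fun h => hpow 3 (by norm_num) (by norm_num) (by
    have h' : a * s = 0 := by rw [h, mul_zero]
    simp only [s] at h'
    field_simp at h'
    linear_combination (a - 1) * h')
  have hs1 : s * s ≠ 1 := fun h => by
    rcases mul_self_eq_one_iff.1 h with h | h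
    · refine hpow 4 (by norm_num) (by norm_num) ?_
      simp only [s] at h
      field_simp at h
      linear_combination (a ^ 2 - 1) * h
    · refine hpow 2 (by norm_num) (by norm_num) ?_
      simp only [s] at h
      field_simp at h
      have hsq : (a + 1) * (a + 1) = 0 := by linear_combination h
      rw [eq_neg_of_add_eq_zero_left (mul_self_eq_zero.1 hsq)]
      ring
  have hτ : τ = 1 := by
    refine Equiv.ext fun l => ?_
    by_contra hl
    have hl : τ l ≠ l := hl
    rw [hx, pmat_mul, pmat_mul] at hcub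
    by_cases h2l : τ (τ l) = l
    · have h3l : τ (τ (τ l)) = τ l := by rw [h2l]
      have A := congrFun (congrFun hcub l) l
      have B := congrFun (congrFun hcub (τ l)) l
      simp [pmat_apply, h2l, h3l, hl, Ne.symm hl] at A B
      apply hs1
      have hc : e (τ l) * e l * s = -1 := by linear_combination -A
      have hc2 : (e (τ l) * e l + s) * e l = 0 := by linear_combination B
      have hc3 := (mul_eq_zero.1 hc2).resolve_right (he l)
      linear_combination s * hc3 - hc
    · have h32 : τ (τ (τ l)) ≠ τ (τ l) := fun h => hl (τ.injective (τ.injective h))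
      have h21 : τ (τ l) ≠ τ l := fun h => hl (τ.injective h)
      have A := congrFun (congrFun hcub (τ (τ l))) l
      simp [pmat_apply, h2l, h32.symm, h21, hl] at A
      rcases A with A | A | A
      · exact hs0 A
      · exact he _ A
      · exact he _ A
  subst hτ
  obtain ⟨i, hi⟩ : ∃ i, g' k i ≠ 0 := by
    by_contra h
    push Not at h
    exact one_ne_zero (α := F) ((g⁻¹).2.symm.trans (det_eq_zero_of_row_eq_zero k h))
  refine no_axis h7 hι hK htop hg hmon (i := i) (l0 := k) fun l hl => ?_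
  have h1 := (rel d e hx k i hi).trans (rel d e hx l i hl).symm
  by_contra hlk
  rcases eq_or_ne l k' with rfl | e1
  · simp [d, hkk] at h1
    exact hpow 2 (by norm_num) (by norm_num) (by rw [pow_two]; nth_rw 2 [h1]; exact mul_inv_cancel₀ ha0)
  · simp [d, hkk, hlk, e1] at h1
    exact hpow 1 one_pos (by norm_num) (by rw [pow_one, h1])

/-- An element with a zero entry is monomial. -/
theorem one_zero {g : SpecialLinearGroup ι F} (hg : g ∈ K) {j k : ι} (hz : (g⁻¹).1 k j = 0) :
    Mon g.1 := by
  classical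
  by_contra hmon
  have hmon' : ¬ Mon (g⁻¹).1 := fun h => hmon (by simpa using h.inv)
  obtain ⟨a, ha0, ha4⟩ : ∃ a : F, a ≠ 0 ∧ a ^ 4 ≠ 1 := by
    obtain ⟨u, hu⟩ := IsCyclic.exists_generator (α := Fˣ)
    refine ⟨u, u.ne_zero, fun h => ?_⟩
    have h1 : u ^ 4 = 1 := Units.ext (by simpa using h)
    have := Nat.le_of_dvd (by norm_num) (orderOf_dvd_of_pow_eq_one h1)
    rw [orderOf_eq_card_of_forall_mem_zpowers hu, Nat.card_units, Nat.card_eq_fintype_card] at this
    omega
  set g' := (g⁻¹).1 with hg'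
  let d : ι → F := Function.update (fun _ => a) k (a ^ 3)⁻¹
  have hd : ∏ l, d l = 1 := by
    rw [Finset.prod_update_of_mem (Finset.mem_univ k), Finset.prod_const,
      show (Finset.univ \ {k}).card = 3 by rw [Finset.card_univ_diff, Finset.card_singleton, hι]]
    field_simp
  have hdk : diagonal d = a • (1 : Matrix ι ι F) + diagonal (Pi.single k ((a ^ 3)⁻¹ - a)) := by
    ext p q
    rcases eq_or_ne p q with rfl | e
    · rcases eq_or_ne p k with rfl | e'
      · simp [d]
      · simp [d, e']
    · simp [e]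
  have hent : ∀ i l, (g.1 * diagonal d * g') i l =
      (if i = l then a else 0) + ((a ^ 3)⁻¹ - a) * g.1 i k * g' k l := by
    intro i l
    rw [hdk, mul_add, add_mul, Matrix.mul_smul, mul_one, Matrix.smul_mul, mul_inv_val,
      Matrix.add_apply, Matrix.smul_apply, Matrix.one_apply, Matrix.mul_apply,
      Finset.sum_eq_single k]
    · rw [mul_diagonal, Pi.single_eq_same]
      split_ifs <;> simp only [smul_eq_mul, mul_one, mul_zero] <;> ring
    · intro b _ hb
      rw [mul_diagonal, Pi.single_eq_of_ne hb, mul_zero, zero_mul]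
    · simp
  have hfix : Fixes j (g * dia d hd * g⁻¹).1 := fun i hi => by
    show (g.1 * diagonal d * g') i j = 0
    rw [hent, if_neg hi, hz, mul_zero, add_zero]
  obtain ⟨τ, hτ⟩ := mon_of_fix h7 hι hK htop
    (K.mul_mem (K.mul_mem hg (hK (dia_mem d hd))) (K.inv_mem hg)) hfix
  obtain ⟨l, hl⟩ : ∃ l, g' k l ≠ 0 := by
    by_contra h
    push Not at h
    exact one_ne_zero (α := F) ((g⁻¹).2.symm.trans (det_eq_zero_of_row_eq_zero k h))
  have hμ : (a ^ 3)⁻¹ - a ≠ 0 := fun e => ha4 (by
    rw [sub_eq_zero] at e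
    field_simp at e
    linear_combination -e)
  refine zlemma h7 hι hK htop (K.inv_mem hg) hmon' k ((Finset.univ.erase l).erase (τ l))
    (fun i hi => ?_) ?_
  · rw [inv_inv]
    simp only [Finset.mem_erase, Finset.mem_univ, and_true] at hi
    have h0 : (g.1 * diagonal d * g') i l = 0 := by
      by_contra h
      exact hi.1 (hτ i l h)
    rw [hent, if_neg hi.2, zero_add] at h0
    exact (mul_eq_zero.1 ((mul_eq_zero.1 h0).resolve_right hl)).resolve_left hμ
  · have h1 := Finset.pred_card_le_card_erase (s := (Finset.univ.erase l : Finset ι)) (a := τ l)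
    rw [Finset.card_erase_of_mem (Finset.mem_univ l), Finset.card_univ] at h1
    omega

omit h7 hι hK htop

/-- The vectors with all coordinates non-zero and product in a class modulo fourth powers. -/
def classSet (c : F) : Finset (ι → F) :=
  Finset.univ.filter fun v => (∀ l, v l ≠ 0) ∧ ∃ s : F, s ≠ 0 ∧ ∏ l, v l = c * s ^ 4

theorem mem_classSet {c : F} {v : ι → F} :
    v ∈ classSet c ↔ (∀ l, v l ≠ 0) ∧ ∃ s : F, s ≠ 0 ∧ ∏ l, v l = c * s ^ 4 := by
  simp [classSet]

theorem card_classSet (hι : Fintype.card ι = 4) {c c' : F} (hc : c ≠ 0) (hc' : c' ≠ 0) :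
    (classSet (ι := ι) c).card = (classSet (ι := ι) c').card := by
  obtain ⟨i⟩ : Nonempty ι := Fintype.card_pos_iff.1 (by omega)
  have map : ∀ c c' : F, c ≠ 0 → c' ≠ 0 → ∀ v ∈ classSet (ι := ι) c,
      Function.update v i (v i * (c' / c)) ∈ classSet (ι := ι) c' := by
    intro c c' hc hc' v hv
    obtain ⟨hv0, s, hs, hp⟩ := mem_classSet.1 hv
    refine mem_classSet.2 ⟨fun l => ?_, s, hs, ?_⟩
    · rcases eq_or_ne l i with rfl | e
      · rw [Function.update_self]; exact mul_ne_zero (hv0 _) (div_ne_zero hc' hc)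
      · rw [Function.update_of_ne e]; exact hv0 l
    · rw [← Finset.mul_prod_erase _ _ (Finset.mem_univ i)] at hp
      rw [Finset.prod_update_of_mem (Finset.mem_univ i), Finset.sdiff_singleton_eq_erase,
        mul_right_comm, hp]
      field_simp
  refine Finset.card_bij' (fun v _ => Function.update v i (v i * (c' / c)))
    (fun v _ => Function.update v i (v i * (c / c'))) (map c c' hc hc') (map c' c hc' hc)
    (fun v _ => ?_) (fun v _ => ?_) <;>
  · funext l
    rcases eq_or_ne l i with rfl | e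
    · simp only [Function.update_self]; field_simp
    · simp [Function.update_of_ne e]

theorem classSet_big (hι : Fintype.card ι = 4) (h7 : 7 ≤ Fintype.card F) {c : F} (hc : c ≠ 0) :
    Fintype.card F ^ 2 * (Fintype.card F - 1) + 4 * Fintype.card F * (Fintype.card F - 1) <
      (classSet (ι := ι) c).card := by
  obtain ⟨i⟩ : Nonempty ι := Fintype.card_pos_iff.1 (by omega)
  set q := Fintype.card F with hq
  set R : Finset F := (Finset.univ.filter fun s : F => s ≠ 0).image fun s => s ^ 4 with hR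
  -- the fourth powers
  have hR3 : q - 1 ≤ 4 * R.card ∧ (q ≠ 9 → 3 ≤ R.card) := by
    have hU : (Finset.univ.filter fun s : F => s ≠ 0).card = q - 1 := by
      rw [Finset.filter_ne', Finset.card_erase_of_mem (Finset.mem_univ _), Finset.card_univ]
    obtain ⟨u, hu⟩ := IsCyclic.exists_generator (α := Fˣ)
    have hord : orderOf u = q - 1 := by
      rw [orderOf_eq_card_of_forall_mem_zpowers hu, Nat.card_units, Nat.card_eq_fintype_card]
    have h4 : q - 1 ≤ 4 * R.card := by
      rw [← hU]
      refine Finset.card_le_mul_card_image _ 4 fun b hb => ?_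
      have hsub : (Finset.univ.filter (fun s : F => s ≠ 0)).filter (fun s => s ^ 4 = b) ⊆
          (Polynomial.X ^ 4 - Polynomial.C b).roots.toFinset := fun s hs => by
        simp only [Finset.mem_filter] at hs
        rw [Multiset.mem_toFinset, Polynomial.mem_roots
          (Polynomial.X_pow_sub_C_ne_zero (by norm_num) b)]
        simp [hs.2]
      refine (Finset.card_le_card hsub).trans ((Multiset.toFinset_card_le _).trans
        ((Polynomial.card_roots' _).trans ?_))
      rw [Polynomial.natDegree_X_pow_sub_C]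
    refine ⟨h4, fun h9 => ?_⟩
    by_cases h10 : 10 ≤ q
    · omega
    · -- `q` is seven or eight
      have hm : ∀ m : ℕ, ((u : F) ^ m) ^ 4 ∈ R := fun m =>
        Finset.mem_image.2 ⟨(u : F) ^ m, by simp, rfl⟩
      have hne : ∀ m : ℕ, ¬ (q - 1) ∣ m → (u : F) ^ m ≠ 1 := fun m hnd e =>
        hnd (hord ▸ orderOf_dvd_of_pow_eq_one (Units.ext (by simpa using e)))
      have e1 : ((u : F) ^ 1) ^ 4 ≠ ((u : F) ^ 0) ^ 4 := by
        rw [← pow_mul, ← pow_mul, pow_zero]
        exact hne 4 (fun d => by interval_cases q <;> omega)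
      have e2 : ((u : F) ^ 2) ^ 4 ≠ ((u : F) ^ 0) ^ 4 := by
        rw [← pow_mul, ← pow_mul, pow_zero]
        exact hne 8 (fun d => by interval_cases q <;> omega)
      have e3 : ((u : F) ^ 2) ^ 4 ≠ ((u : F) ^ 1) ^ 4 := by
        intro e
        apply e1
        have hu4 : ((u : F) ^ 1) ^ 4 ≠ 0 := by simp
        refine mul_left_cancel₀ hu4 ?_
        rw [pow_zero, one_pow, mul_one]
        calc ((u : F) ^ 1) ^ 4 * ((u : F) ^ 1) ^ 4 = ((u : F) ^ 2) ^ 4 := by ring
          _ = _ := e
      refine (show 3 ≤ ({((u : F) ^ 0) ^ 4, ((u : F) ^ 1) ^ 4, ((u : F) ^ 2) ^ 4} : Finset F).card from ?_).trans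
        (Finset.card_le_card ?_)
      · rw [Finset.card_eq_three.2 ⟨_, _, _, e1.symm, e2.symm, e3.symm, rfl⟩]
      · intro x hx
        simp only [Finset.mem_insert, Finset.mem_singleton] at hx
        rcases hx with rfl | rfl | rfl <;> exact hm _
  -- three free coordinates and a fourth power
  have hinj : (R ×ˢ (Finset.univ : Finset ({l // l ≠ i} → Fˣ))).card ≤ (classSet (ι := ι) c).card := by
    refine Finset.card_le_card_of_injOn (fun p l => if h : l = i then
        c * p.1 / ∏ m : {l // l ≠ i}, (p.2 m : F) else (p.2 ⟨l, h⟩ : F))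
      (fun p hp => ?_) (fun p hp p' hp' e => ?_)
    · simp only [Finset.mem_coe, Finset.mem_product, hR, Finset.mem_image, Finset.mem_filter] at hp
      obtain ⟨⟨s, ⟨-, hs⟩, hs4⟩, -⟩ := hp
      have hP : ∏ m : {l // l ≠ i}, (p.2 m : F) ≠ 0 := Finset.prod_ne_zero_iff.2 fun m _ => (p.2 m).ne_zero
      refine mem_classSet.2 ⟨fun l => ?_, s, hs, ?_⟩
      · dsimp only
        split_ifs with h
        · rw [← hs4]; exact div_ne_zero (mul_ne_zero hc (pow_ne_zero _ hs)) hP
        · exact (p.2 _).ne_zero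
      · rw [← Finset.mul_prod_erase _ _ (Finset.mem_univ i)]
        dsimp only
        rw [dif_pos rfl, Finset.prod_subtype (p := fun l => l ≠ i) (Finset.univ.erase i)
          (fun l => by simp)]
        refine (congrArg₂ (· * ·) rfl (Finset.prod_congr rfl fun m _ => dif_neg m.2)).trans ?_
        rw [hs4]
        exact div_mul_cancel₀ _ hP
    · have h2 : p.2 = p'.2 := funext fun m => Units.ext (by
        have := congrFun e m.1
        simpa [dif_neg m.2] using this)
      have h1 := congrFun e i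
      simp only [dif_pos] at h1
      rw [h2] at h1
      have hP : ∏ m : {l // l ≠ i}, (p'.2 m : F) ≠ 0 := Finset.prod_ne_zero_iff.2 fun m _ => (p'.2 m).ne_zero
      exact Prod.ext (mul_left_cancel₀ hc ((div_left_inj' hP).1 h1)) h2
  rw [Finset.card_product, Finset.card_univ, Fintype.card_fun, Fintype.card_units,
    Fintype.card_subtype_compl, Fintype.card_subtype_eq, hι] at hinj
  refine lt_of_lt_of_le ?_ hinj
  obtain ⟨m, hm⟩ : ∃ m, q = m + 1 := ⟨q - 1, by omega⟩
  rw [← hq, hm]
  simp only [Nat.add_sub_cancel, show (4 - 1 : ℕ) = 3 from rfl]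
  rw [hm, Nat.add_sub_cancel] at hR3
  rcases le_or_gt m 8 with h | h
  · have h6 : 6 ≤ m := by omega
    interval_cases m <;> omega
  · have h81 : 4 * (m + 1) ^ 2 + 16 * (m + 1) < m ^ 3 := by
      nlinarith [Nat.mul_le_mul (show 9 ≤ m by omega) (le_refl (m * m)),
        Nat.mul_le_mul (show 9 ≤ m by omega) (le_refl m)]
    nlinarith [Nat.mul_le_mul_left (m ^ 3) hR3.1,
      (Nat.mul_lt_mul_left (show 0 < m by omega)).2 h81]

theorem two_annihilators (v v' : ι → F) [Decidable (v' ∈ Submodule.span F {v})] (hv : v ≠ 0) (hι : Fintype.card ι = 4) :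
    (Finset.univ.filter fun c : ι → F => c ⬝ᵥ v = 0 ∧ c ⬝ᵥ v' = 0).card =
      if v' ∈ Submodule.span F {v} then Fintype.card F ^ 3 else Fintype.card F ^ 2 := by
  classical
  let A : (ι → F) →ₗ[F] (Fin 2 → F) :=
    { toFun := fun c => ![c ⬝ᵥ v, c ⬝ᵥ v']
      map_add' := fun a b => by ext t; fin_cases t <;> simp [add_dotProduct]
      map_smul' := fun r a => by ext t; fin_cases t <;> simp [smul_dotProduct] }
  obtain ⟨i, hi⟩ := Function.ne_iff.1 hv
  have hcard : (Finset.univ.filter fun c : ι → F => c ⬝ᵥ v = 0 ∧ c ⬝ᵥ v' = 0).card =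
      Fintype.card F ^ Module.finrank F (LinearMap.ker A) := by
    rw [← Module.card_eq_pow_finrank, ← Fintype.card_subtype]
    exact Fintype.card_congr (Equiv.subtypeEquivRight fun c => by
      rw [LinearMap.mem_ker]
      exact ⟨fun h => by ext t; fin_cases t <;> simp [A, h.1, h.2],
        fun h => ⟨congrFun h 0, congrFun h 1⟩⟩)
  have hrn := A.finrank_range_add_finrank_ker
  rw [Module.finrank_fintype_fun_eq_card, hι] at hrn
  rw [hcard]
  split_ifs with hvv
  · congr 1
    obtain ⟨r, rfl⟩ := Submodule.mem_span_singleton.1 hvv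
    have h1 : LinearMap.range A = Submodule.span F {![1, r]} := by
      apply le_antisymm
      · rintro _ ⟨c, rfl⟩
        exact Submodule.mem_span_singleton.2 ⟨c ⬝ᵥ v, by ext t; fin_cases t <;> simp [A, mul_comm]⟩
      · rw [Submodule.span_singleton_le_iff_mem]
        have hvi : v i ≠ 0 := hi
        exact ⟨Pi.single i (v i)⁻¹, by ext t; fin_cases t <;> simp [A, hvi] <;> field_simp⟩
    rw [h1, finrank_span_singleton (fun e => one_ne_zero (α := F) (congrFun e 0))] at hrn
    omega
  · congr 1
    have h1 : LinearMap.range A = ⊤ := by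
      obtain ⟨k, hk⟩ : ∃ k, v' k - (v' i / v i) * v k ≠ 0 := by
        by_contra hall
        push Not at hall
        exact hvv (Submodule.mem_span_singleton.2 ⟨v' i / v i, funext fun k =>
          (sub_eq_zero.1 (hall k)).symm⟩)
      rw [eq_top_iff]
      intro y _
      obtain ⟨t, ht⟩ : ∃ t, t = (y 1 - (v' i / v i) * y 0) / (v' k - (v' i / v i) * v k) := ⟨_, rfl⟩
      refine ⟨Pi.single i ((y 0 - t * v k) / v i) + Pi.single k t, ?_⟩
      have hvi : v i ≠ 0 := hi
      have e := div_mul_cancel₀ (y 1 - (v' i / v i) * y 0) hk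
      rw [← ht] at e
      ext s
      fin_cases s <;> simp [A, add_dotProduct]
      · field_simp; ring
      · field_simp at e ⊢
        linear_combination e
    rw [h1, finrank_top, Module.finrank_fin_fun] at hrn
    omega

/-- A class meets every hyperplane in general position often. -/
theorem many_on_hyperplane (hι : Fintype.card ι = 4) (h7 : 7 ≤ Fintype.card F) {c : F} (hc : c ≠ 0)
    {r : ι → F} (hr : ∀ l, r l ≠ 0) :
    4 * (Fintype.card F - 1) < ((classSet (ι := ι) c).filter fun v => r ⬝ᵥ v = 0).card := by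
  classical
  set O := classSet (ι := ι) c with hO
  set q := Fintype.card F with hq
  set N : (ι → F) → ℤ := fun x => ((O.filter fun v => x ⬝ᵥ v = 0).card : ℤ) with hN
  have hO0 : ∀ v ∈ O, v ≠ 0 := fun v hv e => by
    obtain ⟨l⟩ : Nonempty ι := Fintype.card_pos_iff.1 (by omega)
    exact (mem_classSet.1 hv).1 l (congrFun e l)
  have hsum : ∑ x, N x = (O.card : ℤ) * (q : ℤ) ^ 3 := by
    simp only [hN, Finset.card_filter, Nat.cast_sum]
    rw [Finset.sum_comm, Finset.sum_congr rfl fun v hv => ?_, Finset.sum_const, nsmul_eq_mul]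
    rw [← Nat.cast_sum, ← Finset.card_filter]
    have := two_annihilators v v (hO0 v hv) hι
    simp only [and_self, Submodule.mem_span_singleton_self, if_true] at this
    exact_mod_cast this
  have hmult : ∀ v ∈ O, ((O.filter fun v' => v' ∈ Submodule.span F {v}).card : ℤ) = (q : ℤ) - 1 := by
    intro v hv
    have e : (O.filter fun v' => v' ∈ Submodule.span F {v}) =
        (Finset.univ.filter fun t : F => t ≠ 0).image (fun t => t • v) := by
      ext x
      simp only [Finset.mem_filter, Finset.mem_image, Finset.mem_univ, true_and,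
        Submodule.mem_span_singleton]
      constructor
      · rintro ⟨hx, t, rfl⟩
        exact ⟨t, fun e => hO0 _ hx (by rw [e, zero_smul]), rfl⟩
      · rintro ⟨t, ht, rfl⟩
        obtain ⟨h1, s, hs, hp⟩ := mem_classSet.1 hv
        refine ⟨mem_classSet.2 ⟨fun l => by
          rw [Pi.smul_apply, smul_eq_mul]; exact mul_ne_zero ht (h1 l), t * s, mul_ne_zero ht hs, ?_⟩, t, rfl⟩
        simp only [Pi.smul_apply, smul_eq_mul]
        rw [Finset.prod_mul_distrib, Finset.prod_const, Finset.card_univ, hι, hp]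
        ring
    rw [e, Finset.card_image_of_injective _ (fun a b h => smul_left_injective F (hO0 v hv) h),
      Finset.filter_ne', Finset.card_erase_of_mem (Finset.mem_univ _), Finset.card_univ]
    omega
  have hsq : ∑ x, N x * N x = (O.card : ℤ) *
      ((q - 1) * (q : ℤ) ^ 3 + ((O.card : ℤ) - (q - 1)) * (q : ℤ) ^ 2) := by
    have e : ∀ x, N x * N x = ∑ v ∈ O, ∑ v' ∈ O, if x ⬝ᵥ v = 0 ∧ x ⬝ᵥ v' = 0 then (1 : ℤ) else 0 := by
      intro x
      simp only [hN, Finset.card_filter, Nat.cast_sum, Nat.cast_ite, Nat.cast_one, Nat.cast_zero]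
      rw [Finset.sum_mul_sum]
      refine Finset.sum_congr rfl fun v _ => Finset.sum_congr rfl fun v' _ => ?_
      split_ifs <;> simp_all
    simp only [e]
    rw [Finset.sum_comm, Finset.sum_congr rfl fun v hv => ?_, Finset.sum_const, nsmul_eq_mul]
    rw [Finset.sum_comm]
    simp only [Finset.sum_boole, two_annihilators v _ (hO0 v hv) hι]
    simp only [Nat.cast_ite, Nat.cast_pow, Finset.sum_ite, Finset.sum_const, nsmul_eq_mul]
    have h1 := hmult v hv
    have h2 : ((O.filter fun v' => ¬ v' ∈ Submodule.span F {v}).card : ℤ) = (O.card : ℤ) - (q - 1) := by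
      rw [← h1, eq_sub_iff_add_eq', ← Nat.cast_add, Finset.card_filter_add_card_filter_not]
    rw [h1, h2]
  set S : ℤ := (O.card : ℤ) with hS
  set C := classSet (ι := ι) (∏ l, r l) with hC
  have hr0 : ∏ l, r l ≠ 0 := Finset.prod_ne_zero_iff.2 fun l _ => hr l
  have hconst : ∀ x ∈ C, N x = N r := by
    intro x hx
    obtain ⟨hx0, s, hs, hp⟩ := mem_classSet.1 hx
    have map : ∀ x r : ι → F, (∀ l, x l ≠ 0) → (∀ l, r l ≠ 0) → (∃ s : F, s ≠ 0 ∧ ∏ l, x l = (∏ l, r l) * s ^ 4) →
        (O.filter fun v => x ⬝ᵥ v = 0).card ≤ (O.filter fun v => r ⬝ᵥ v = 0).card := by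
      intro x r hx0 hr hs
      obtain ⟨s, hs, hp⟩ := hs
      refine Finset.card_le_card_of_injOn (fun v l => v l * (x l / r l)) (fun v hv => ?_)
        (fun a _ b _ e => funext fun l => mul_right_cancel₀ (div_ne_zero (hx0 l) (hr l)) (congrFun e l))
      simp only [Finset.mem_coe, Finset.mem_filter] at hv ⊢
      obtain ⟨hv0, s', hs', hp'⟩ := mem_classSet.1 hv.1
      refine ⟨mem_classSet.2 ⟨fun l => mul_ne_zero (hv0 l) (div_ne_zero (hx0 l) (hr l)), s' * s,
        mul_ne_zero hs' hs, ?_⟩, ?_⟩
      · rw [Finset.prod_mul_distrib, Finset.prod_div_distrib, hp', hp]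
        have := Finset.prod_ne_zero_iff.2 fun l (_ : l ∈ Finset.univ) => hr l
        field_simp
      · rw [← hv.2]
        exact Finset.sum_congr rfl fun l _ => by field_simp [hr l]
    simp only [hN]
    exact_mod_cast le_antisymm (map x r hx0 hr ⟨s, hs, hp⟩) (map r x hr hx0
      ⟨s⁻¹, inv_ne_zero hs, by rw [hp, inv_pow]; field_simp⟩)
  have hvar : ∑ x, ((q : ℤ) * N x - S) ^ 2 = S * (q - 1) * (q : ℤ) ^ 4 * (q - 1) := by
    have e : ∀ x, ((q : ℤ) * N x - S) ^ 2 = (q : ℤ) ^ 2 * (N x * N x) - 2 * q * S * N x + S * S :=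
      fun x => by ring
    simp only [e, Finset.sum_add_distrib, Finset.sum_sub_distrib, ← Finset.mul_sum, hsum, hsq,
      Finset.sum_const, Finset.card_univ, Fintype.card_fun, hι, nsmul_eq_mul]
    push_cast
    ring
  have hle : (C.card : ℤ) * ((q : ℤ) * N r - S) ^ 2 ≤ S * (q - 1) * (q : ℤ) ^ 4 * (q - 1) := by
    rw [← hvar, ← nsmul_eq_mul, ← Finset.sum_const,
      ← Finset.sum_congr rfl (fun x hx => by rw [hconst x hx] : ∀ x ∈ C, ((q : ℤ) * N x - S) ^ 2 = ((q : ℤ) * N r - S) ^ 2)]
    exact Finset.sum_le_univ_sum_of_nonneg fun x => sq_nonneg _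
  rw [show (C.card : ℤ) = S by rw [hS, hC, hO, card_classSet hι hr0 hc]] at hle
  have hbig := classSet_big (ι := ι) hι h7 hc
  rw [← hO, ← hq] at hbig
  have hq1 : ((q - 1 : ℕ) : ℤ) = (q : ℤ) - 1 := by omega
  have hbigZ : (q : ℤ) ^ 2 * ((q : ℤ) - 1) + 4 * q * ((q : ℤ) - 1) < S := by
    rw [hS, ← hq1]; exact_mod_cast hbig
  have hq0 : (7 : ℤ) ≤ q := by exact_mod_cast h7
  have hS0 : 0 < S := lt_of_le_of_lt (by nlinarith) hbigZ
  have h9 : ((q : ℤ) * N r - S) ^ 2 ≤ ((q : ℤ) ^ 2 * ((q : ℤ) - 1)) ^ 2 :=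
    le_of_mul_le_mul_left (hle.trans_eq (by ring)) hS0
  have h10 := abs_le_of_sq_le_sq' h9 (by nlinarith)
  have h11 : 4 * ((q : ℤ) - 1) < N r := by
    by_contra h
    push Not at h
    nlinarith [mul_le_mul_of_nonneg_left h (by linarith : (0 : ℤ) ≤ q)]
  simp only [hN] at h11
  rw [← hq1] at h11
  exact_mod_cast h11

include h7 hι hK htop

/-- Overgroups of the monomial group. -/
theorem mon_all {g : SpecialLinearGroup ι F} (hg : g ∈ K) : Mon g.1 := by
  classical
  by_contra hmon
  obtain ⟨j⟩ : Nonempty ι := Fintype.card_pos_iff.1 (by omega)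
  set g' := (g⁻¹).1 with hg'
  have hw : ∀ l, g' l j ≠ 0 := fun l h => hmon (one_zero h7 hι hK htop hg h)
  have hr : ∀ l, g.1 j l ≠ 0 := fun l h => hmon (by
    have := one_zero h7 hι hK htop (g := g⁻¹) (K.inv_mem hg) (k := j) (j := l) (by rwa [inv_inv])
    simpa using this.inv)
  have hc : ∏ l, g' l j ≠ 0 := Finset.prod_ne_zero_iff.2 fun l _ => hw l
  set O := (classSet (ι := ι) (∏ l, g' l j)).filter fun v => (fun l => g.1 j l) ⬝ᵥ v = 0 with hO
  have hbad : ¬ O ⊆ ((Finset.univ : Finset ι) ×ˢ (Finset.univ.filter fun t : F => t ≠ 0)).image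
      fun p => fun l => p.2 * g' l p.1 := fun hsub => by
    have h1 := (Finset.card_le_card hsub).trans Finset.card_image_le
    rw [Finset.card_product, Finset.card_univ, hι, Finset.filter_ne',
      Finset.card_erase_of_mem (Finset.mem_univ _), Finset.card_univ] at h1
    have h2 := many_on_hyperplane hι h7 hc (r := fun l => g.1 j l) hr
    rw [← hO] at h2
    omega
  obtain ⟨v, hv, hvb⟩ := Finset.not_subset.1 hbad
  rw [hO, Finset.mem_filter] at hv
  obtain ⟨hvc, hv0⟩ := hv
  obtain ⟨hvn, s, hs, hp⟩ := mem_classSet.1 hvc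
  let d : ι → F := fun l => v l / (s * g' l j)
  have hd : ∏ l, d l = 1 := by
    simp only [d]
    rw [Finset.prod_div_distrib, hp, Finset.prod_mul_distrib, Finset.prod_const, Finset.card_univ, hι]
    field_simp
  obtain ⟨x, hx⟩ : ∃ x, x = g * dia d hd * g⁻¹ := ⟨_, rfl⟩
  have hxK : x ∈ K := by
    rw [hx]; exact K.mul_mem (K.mul_mem hg (hK (dia_mem d hd))) (K.inv_mem hg)
  have hcol : x.1 *ᵥ Pi.single j 1 = s⁻¹ • (g.1 *ᵥ v) := by
    rw [hx]
    show (g.1 * diagonal d * g') *ᵥ _ = _
    rw [← mulVec_mulVec, ← mulVec_mulVec, mulVec_single_one, ← mulVec_smul]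
    congr 1
    funext l
    rw [mulVec_diagonal]
    simp [d]
    field_simp [hw l]
  have hz : x.1 j j = 0 := by
    have := congrFun hcol j
    rw [mulVec_single_one] at this
    change x.1 j j = _ at this
    rw [this, Pi.smul_apply]
    show s⁻¹ • ((fun l => g.1 j l) ⬝ᵥ v) = 0
    rw [hv0, smul_zero]
  have hxm : Mon x.1 := by
    have := one_zero h7 hι hK htop (g := x⁻¹) (K.inv_mem hxK) (k := j) (j := j) (by rwa [inv_inv])
    simpa using this.inv
  obtain ⟨τ, e, he, he0⟩ := hxm.exists_pmat
  have h1 : v = (s * e j) • (g' *ᵥ Pi.single (τ j) 1) := by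
    have h2 : g.1 *ᵥ v = (s * e j) • Pi.single (τ j) 1 := by
      have h3 : s⁻¹ • (g.1 *ᵥ v) = e j • Pi.single (τ j) (1 : F) := by
        rw [← hcol, he, pmat_mulVec]
        funext i
        rcases eq_or_ne i (τ j) with rfl | hne
        · simp
        · simp [hne, show τ.symm i ≠ j from fun f => hne (by rw [← f, Equiv.apply_symm_apply])]
      rw [mul_smul, ← h3, smul_inv_smul₀ hs]
    rw [← mulVec_smul, ← h2, mulVec_mulVec, inv_mul_val, one_mulVec]
  refine hvb (Finset.mem_image.2 ⟨(τ j, s * e j), by simp [hs, he0], ?_⟩)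
  rw [h1, mulVec_single_one]
  rfl

omit hι htop h7 hK

/-- The stabiliser of four lines is maximal. -/
theorem le_mons_or_top (hι : Fintype.card ι = 4) (h7 : 7 ≤ Fintype.card F) (hK : mons ≤ K) :
    K = ⊤ ∨ ∀ g ∈ K, Mon g.1 :=
  or_iff_not_imp_left.2 fun htop g hg => mon_all h7 hι hK htop hg

end CfsgLib.Classical.SLFour.Mon
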