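import Cfsg.Agent.Lib.Classical.LinearQuad

set_option autoImplicit false
set_option linter.unusedSectionVars false

/-!
The similarity group of a quadratic form of dimension four is maximal in the special linear group, odd characteristic.
Two conjugate Siegel groups at a non-singular point give a transvection.
-/

namespace CfsgLib.Classical.SLFour.Quad

open Matrix CfsgLib.Orth
open CfsgLib.Classical.MinIndex
open CfsgLib.Classical.MinIndex.Quad (qsim IsT exists_isT exists_siegelSL)
open scoped MatrixGroups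

variable {F : Type*} [Field F] [Finite F]

local notation "V" => Fin 4 → F
local notation "SL'" => SpecialLinearGroup (Fin 4) F

variable (K : Subgroup (SpecialLinearGroup (Fin 4) F))

/-- The Siegel group of the form at `u` lies in `K`. -/
def Sie (Q' : QuadraticForm F (Fin 4 → F)) (u : Fin 4 → F) : Prop :=
  ∀ a, QuadraticMap.polar ⇑Q' u a = 0 → ∃ k ∈ K, ∀ x, app k x =
    x + QuadraticMap.polar ⇑Q' x u • a - QuadraticMap.polar ⇑Q' x a • u
      - (Q' a * QuadraticMap.polar ⇑Q' x u) • u

variable {K}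

theorem polar_comp (Q' : QuadraticForm F V) (L : V →ₗ[F] V) (x y : V) :
    QuadraticMap.polar ⇑(Q'.comp L) x y = QuadraticMap.polar ⇑Q' (L x) (L y) := by
  simp [QuadraticMap.polar, map_add]

theorem Sie.conj {Q' : QuadraticForm F V} {u : V} (h : Sie K Q' u) {g : SL'} (hg : g ∈ K) :
    Sie K (Q'.comp (Matrix.toLin' (g⁻¹).1)) (app g u) := by
  intro a ha
  have hl : ∀ x, Matrix.toLin' (g⁻¹).1 x = app g⁻¹ x := fun x => Matrix.toLin'_apply _ _
  rw [polar_comp, hl, hl, app_inv] at ha
  obtain ⟨k, hk, hkx⟩ := h _ ha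
  refine ⟨g * k * g⁻¹, K.mul_mem (K.mul_mem hg hk) (K.inv_mem hg), fun x => ?_⟩
  let gl : V →ₗ[F] V := Matrix.toLin' g.1
  have hgl : ∀ x, gl x = app g x := fun x => Matrix.toLin'_apply _ _
  rw [app_mul, app_mul, hkx, polar_comp, polar_comp, QuadraticMap.comp_apply, hl, hl, hl, app_inv,
    ← hgl, map_sub, map_sub, map_add, map_smul, map_smul, map_smul, hgl, hgl, hgl, app_inv', app_inv']

/-- Two Siegel groups at a point with different axes give a transvection. -/
theorem exists_transvection {Q' Q'' : QuadraticForm F V} (h2 : (2 : F) ≠ 0) (hB'' : Nondeg Q'')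
    {u b : V} (hu0 : u ≠ 0) (hu' : Q' u = 0) (hu'' : Q'' u = 0)
    (hb' : QuadraticMap.polar ⇑Q' b u = 1) (hb'' : QuadraticMap.polar ⇑Q'' b u = 0)
    (h' : Sie K Q' u) (h'' : Sie K Q'' u) :
    ∃ θ : V →ₗ[F] F, θ ≠ 0 ∧ θ u = 0 ∧ ∃ j ∈ K, ∀ x, app j x = x + θ x • u := by
  classical
  let φ : V →ₗ[F] F := QuadraticMap.polarBilin Q' u
  let φ' : V →ₗ[F] F := QuadraticMap.polarBilin Q'' u
  have hφ : ∀ x, φ x = QuadraticMap.polar ⇑Q' x u := fun x => by rw [b_comm]; rfl
  have hφ' : ∀ x, φ' x = QuadraticMap.polar ⇑Q'' x u := fun x => by rw [b_comm]; rfl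
  obtain ⟨a, haA, hau⟩ : ∃ a, a ∈ LinearMap.ker φ ⊓ LinearMap.ker φ' ∧ a ∉ Submodule.span F {u} := by
    by_contra hc
    push Not at hc
    let Λ : V →ₗ[F] (Fin 2 → F) :=
      { toFun := fun x => ![φ x, φ' x]
        map_add' := fun x y => by ext i; fin_cases i <;> simp
        map_smul' := fun c x => by ext i; fin_cases i <;> simp }
    have hle : LinearMap.ker Λ ≤ Submodule.span F {u} := fun x hx =>
      hc x ⟨congrFun (LinearMap.mem_ker.1 hx) 0, congrFun (LinearMap.mem_ker.1 hx) 1⟩
    have h1 := Λ.finrank_range_add_finrank_ker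
    have h3 := (Submodule.finrank_le (LinearMap.range Λ)).trans_eq (Module.finrank_fin_fun F)
    have h4 := Submodule.finrank_mono hle
    rw [finrank_span_singleton hu0] at h4
    rw [Module.finrank_fin_fun] at h1
    omega
  have hua' : QuadraticMap.polar ⇑Q' u a = 0 := haA.1
  have hua'' : QuadraticMap.polar ⇑Q'' u a = 0 := haA.2
  have hau' : QuadraticMap.polar ⇑Q' a u = 0 := by rw [b_comm]; exact hua'
  have hau'' : QuadraticMap.polar ⇑Q'' a u = 0 := by rw [b_comm]; exact hua''
  have huu' := b_self_zero hu'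
  have huu'' := b_self_zero hu''
  have hub'' : QuadraticMap.polar ⇑Q'' u b = 0 := by rw [b_comm]; exact hb''
  -- `a` is not orthogonal to `b` if it is singular
  have hkey : Q'' a = 0 → QuadraticMap.polar ⇑Q'' a b ≠ 0 := by
    intro ha0 hab
    have hsp : LinearMap.ker φ' ≤ Submodule.span F (Set.range ![u, a, b]) := by
      have hli : LinearIndependent F ![u, a, b] := by
        rw [Fintype.linearIndependent_iff]
        intro c hc
        rw [Fin.sum_univ_three] at hc
        simp only [Matrix.cons_val_zero, Matrix.cons_val_one, Matrix.cons_val] at hc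
        have h2' : c 2 = 0 := by
          have := congrArg (fun v => QuadraticMap.polar ⇑Q' v u) hc
          simp only [b_add_left, b_smul_left, b_zero_left, huu', hau', hb', mul_zero, mul_one,
            zero_add] at this
          exact this
        rw [h2', zero_smul, add_zero] at hc
        have h1' : c 1 = 0 := by
          by_contra hne
          refine hau (Submodule.mem_span_singleton.2 ⟨-((c 1)⁻¹ * c 0), ?_⟩)
          have e : c 1 • a = -(c 0 • u) := eq_neg_of_add_eq_zero_right hc
          rw [neg_smul, ← smul_smul, ← smul_neg, ← e, smul_smul, inv_mul_cancel₀ hne, one_smul]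
        rw [h1', zero_smul, add_zero] at hc
        intro i
        fin_cases i
        · exact (smul_eq_zero.1 hc).resolve_right hu0
        · exact h1'
        · exact h2'
      have hle : Submodule.span F (Set.range ![u, a, b]) ≤ LinearMap.ker φ' := by
        rw [Submodule.span_le]
        rintro _ ⟨i, rfl⟩
        fin_cases i
        · show φ' u = 0; rw [hφ', huu'']
        · show φ' a = 0; rw [hφ', hau'']
        · show φ' b = 0; rw [hφ', hb'']
      refine (Submodule.eq_of_le_of_finrank_le hle ?_).ge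
      rw [finrank_span_eq_card hli, Fintype.card_fin]
      obtain ⟨e, he⟩ : ∃ e, φ' e ≠ 0 := by
        by_contra hc
        push Not at hc
        exact hu0 (hB'' u hc)
      have := Submodule.finrank_lt (s := LinearMap.ker φ') fun h => he (LinearMap.mem_ker.1
        (h ▸ Submodule.mem_top : e ∈ LinearMap.ker φ'))
      rw [Module.finrank_fin_fun] at this
      omega
    have hperp : ∀ x, φ' x = 0 → QuadraticMap.polar ⇑Q'' a x = 0 := fun x hx => by
      have := hsp hx
      obtain ⟨c, rfl⟩ := Submodule.mem_span_range_iff_exists_fun F |>.1 this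
      rw [Fin.sum_univ_three]
      simp only [Matrix.cons_val_zero, Matrix.cons_val_one, Matrix.cons_val, b_add_right,
        b_smul_right, hau'', b_self_zero ha0, hab, mul_zero, add_zero]
    obtain ⟨e, he⟩ : ∃ e, φ' e ≠ 0 := by
      by_contra hc
      push Not at hc
      exact hu0 (hB'' u hc)
    refine hau (Submodule.mem_span_singleton.2
      ⟨QuadraticMap.polar ⇑Q'' a e / φ' e, (sub_eq_zero.1 (hB'' _ fun x => ?_)).symm⟩)
    have h0 := hperp (x - (φ' x / φ' e) • e) (by
      rw [map_sub, map_smul, smul_eq_mul, div_mul_cancel₀ _ he, sub_self])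
    rw [b_sub_right, b_smul_right] at h0
    have hux : QuadraticMap.polar ⇑Q'' u x = φ' x := by rw [hφ', b_comm]
    rw [b_sub_left, b_smul_left, hux]
    field_simp at h0 ⊢
    linear_combination h0
  obtain ⟨k, hk, hkx⟩ := h' a hua'
  obtain ⟨k', hk', hk'x⟩ := h'' b hub''
  obtain ⟨k₃, hk₃, hk₃x⟩ := h'' a hua''
  obtain ⟨θ, hθ⟩ : ∃ θ : V →ₗ[F] F, ∀ x, θ x = QuadraticMap.polar ⇑Q'' x a
      + φ' x * (-(Q'' a) - QuadraticMap.polar ⇑Q' a b - Q' a - QuadraticMap.polar ⇑Q'' a b)
      + φ x * QuadraticMap.polar ⇑Q'' a b :=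
    ⟨QuadraticMap.polarBilin Q'' a
      + (-(Q'' a) - QuadraticMap.polar ⇑Q' a b - Q' a - QuadraticMap.polar ⇑Q'' a b) • φ'
      + QuadraticMap.polar ⇑Q'' a b • φ, fun x => by
        simp only [LinearMap.add_apply, LinearMap.smul_apply, smul_eq_mul,
          QuadraticMap.polarBilin_apply_apply, b_comm x a]
        ring⟩
  have hθu : θ u = 0 := by
    rw [hθ, hφ, hφ', huu', huu'', hua'']; ring
  refine ⟨θ, fun e => ?_, hθu, k * k' * k⁻¹ * k'⁻¹ * k₃⁻¹,
    K.mul_mem (K.mul_mem (K.mul_mem (K.mul_mem hk hk') (K.inv_mem hk)) (K.inv_mem hk')) (K.inv_mem hk₃),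
    fun z => ?_⟩
  · by_cases ha : Q'' a = 0
    · have := congrArg (fun t : V →ₗ[F] F => t b) e
      simp only [hθ, hφ, hφ', hb', hb'', LinearMap.zero_apply, b_comm b a, zero_mul, add_zero,
        one_mul] at this
      exact hkey ha ((mul_eq_zero.1 (show 2 * QuadraticMap.polar ⇑Q'' a b = 0 by
        linear_combination this)).resolve_left h2)
    · have := congrArg (fun t : V →ₗ[F] F => t a) e
      simp only [hθ, hφ, hφ', hau', hau'', LinearMap.zero_apply, b_self, zero_mul, add_zero] at this
      exact ha ((mul_eq_zero.1 this).resolve_left h2)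
  · obtain ⟨x, rfl⟩ : ∃ x, z = app k₃ (app k' (app k x)) :=
      ⟨app k⁻¹ (app k'⁻¹ (app k₃⁻¹ z)), by rw [app_inv', app_inv', app_inv']⟩
    rw [app_mul, app_mul, app_mul, app_mul, app_inv, app_inv, app_inv, hθ, hφ, hφ']
    simp only [hk₃x, hk'x, hkx, b_add_left, b_sub_left, b_smul_left, huu', huu'', hau', hau'',
      hua', hua'', hb', hb'', hub'', b_self, b_comm b a, mul_zero, mul_one, add_zero, sub_zero, zero_add]
    module

section Main

variable {Q : QuadraticForm F (Fin 4 → F)}

local notation "B" => QuadraticMap.polar (DFunLike.coe Q)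

variable (hB : Nondeg Q) (h2 : (2 : F) ≠ 0)

include hB h2

theorem exists_singular_meet {u w : V} (hu : Q u ≠ 0) (hw : w ∉ Submodule.span F {u}) :
    ∃ p, Q p = 0 ∧ B u p = 0 ∧ B w p ≠ 0 := by
  by_contra hc
  push Not at hc
  set U := orth Q (Submodule.span F {u}) with hU
  have hu0 : u ≠ 0 := fun e => hu (by rw [e, QuadraticMap.map_zero])
  have hd : 3 ≤ Module.finrank F U := by
    have := finrank_orth hB (Submodule.span F {u})
    rw [finrank_span_singleton hu0, Module.finrank_fin_fun, ← hU] at this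
    omega
  obtain ⟨s, hs, hs0, hsq⟩ := exists_singular (Q := Q) (U := U) hd
  have hus : ∀ y ∈ U, B u y = 0 := fun y hy => mem_orth.1 hy u (Submodule.mem_span_singleton_self u)
  have hmemU : ∀ y, B u y = 0 → y ∈ U := fun y hy => mem_orth.2 fun v hv => by
    obtain ⟨c, rfl⟩ := Submodule.mem_span_singleton.1 hv
    rw [b_smul_left, hy, mul_zero]
  obtain ⟨y, hy, hsy⟩ : ∃ y, y ∈ U ∧ B s y ≠ 0 := by
    by_contra hall
    push Not at hall
    have hsU : s ∈ orth Q U := mem_orth.2 fun v hv => by rw [b_comm]; exact hall v hv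
    rw [hU, orth_orth hB] at hsU
    obtain ⟨c, hc'⟩ := Submodule.mem_span_singleton.1 hsU
    rw [← hc', q_smul, mul_eq_zero] at hsq
    have : c = 0 := by
      rcases hsq with h | h
      · exact mul_self_eq_zero.1 h
      · exact absurd h hu
    exact hs0 (by rw [← hc', this, zero_smul])
  obtain ⟨y', hy', hey'⟩ : ∃ y' ∈ U, B s y' = 1 :=
    ⟨(B s y)⁻¹ • y, U.smul_mem _ hy, by rw [b_smul_right, inv_mul_cancel₀ hsy]⟩
  have hsp := le_span_singular_in (S := U) hs (U.sub_mem hy' (U.smul_mem (Q y') hs)) hsq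
      (by rw [q_sub, q_smul, hsq, b_smul_right, b_comm y' s, hey']; ring)
      (by rw [b_sub_right, b_smul_right, hey', b_self_zero hsq, mul_zero, sub_zero])
  have hwU : w ∈ orth Q U := mem_orth.2 fun v hv => by
    have h1 : v ∈ LinearMap.ker (QuadraticMap.polarBilin Q w) :=
      Submodule.span_le.2 (fun z hz => hc z hz.2 (hus z hz.1)) (hsp hv)
    rw [b_comm]
    exact h1
  rw [hU, orth_orth hB] at hwU
  exact hw hwU

theorem exists_aniso_meet {u p : V} (hu : Q u ≠ 0) (hp : Q p = 0) (hp0 : p ≠ 0) (hup : B u p = 0) :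
    ∃ q, B u q = 0 ∧ B p q = 0 ∧ Q q ≠ 0 := by
  by_contra hc
  push Not at hc
  set T := Submodule.span F (Set.range ![u, p]) with hT
  have hq : ∀ v ∈ orth Q T, Q v = 0 := fun v hv =>
    hc v (mem_orth.1 hv u (Submodule.subset_span ⟨0, rfl⟩)) (mem_orth.1 hv p (Submodule.subset_span ⟨1, rfl⟩))
  have hle : orth Q T ≤ T := by
    intro w hw
    rw [← orth_orth hB T]
    refine mem_orth.2 fun v hv => ?_
    have := hq (v + w) (Submodule.add_mem _ hv hw)
    rw [q_add, hq v hv, hq w hw, zero_add, zero_add] at this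
    exact this
  have h2' : Module.finrank F T ≤ 2 :=
    (finrank_range_le_card (R := F) ![u, p]).trans_eq (Fintype.card_fin 2)
  have hsum := finrank_orth hB T
  rw [Module.finrank_fin_fun] at hsum
  have e : orth Q T = T := Submodule.eq_of_le_of_finrank_le hle (by omega)
  have hu' : u ∈ orth Q T := by rw [e]; exact Submodule.subset_span ⟨0, rfl⟩
  exact hu (hq u hu')

theorem prop_of_singular {Q' : QuadraticForm F V} (h : ∀ x, Q x = 0 → Q' x = 0) :
    ∃ c : F, ∀ x, Q' x = c * Q x := by
  obtain ⟨s, -, hs0, hs⟩ := exists_singular (Q := Q) (U := (⊤ : Submodule F V))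
    (by rw [finrank_top, Module.finrank_fin_fun]; norm_num)
  obtain ⟨f', -, hsf'⟩ := exists_orth_one hB (W := ⊥) (x := s) (by simpa using hs0)
  obtain ⟨f, hf, hsf⟩ : ∃ f, Q f = 0 ∧ B s f = 1 :=
    ⟨f' - Q f' • s, by rw [q_sub, q_smul, hs, b_smul_right, b_comm f' s, hsf']; ring,
      by rw [b_sub_right, b_smul_right, b_self_zero hs, mul_zero, sub_zero, hsf']⟩
  have hfs : B f s = 1 := by rw [b_comm]; exact hsf
  obtain ⟨c, hc⟩ : ∃ c, c = QuadraticMap.polar ⇑Q' s f := ⟨_, rfl⟩
  refine ⟨c, ?_⟩
  set X := orth Q (Submodule.span F (Set.range ![s, f])) with hX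
  have hXd : 2 ≤ Module.finrank F X := by
    have h2' : Module.finrank F (Submodule.span F (Set.range ![s, f])) ≤ 2 :=
      (finrank_range_le_card (R := F) ![s, f]).trans_eq (Fintype.card_fin 2)
    have hsum := finrank_orth hB (Submodule.span F (Set.range ![s, f]))
    rw [Module.finrank_fin_fun, ← hX] at hsum
    omega
  have hmem : ∀ x ∈ X, B x s = 0 ∧ B x f = 0 := fun x hx => by
    refine ⟨?_, ?_⟩ <;> rw [b_comm]
    · exact mem_orth.1 hx s (Submodule.subset_span ⟨0, rfl⟩)
    · exact mem_orth.1 hx f (Submodule.subset_span ⟨1, rfl⟩)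
  have hmem' : ∀ x, B x s = 0 → B x f = 0 → x ∈ X := fun x h1 h2 => mem_orth.2 fun v hv => by
    obtain ⟨d, rfl⟩ := (Submodule.mem_span_range_iff_exists_fun F).1 hv
    rw [Fin.sum_univ_two, b_comm]
    simp [b_add_right, b_smul_right, h1, h2]
  -- the values on `X`
  have hval : ∀ x ∈ X, Q' x = c * Q x ∧
      QuadraticMap.polar ⇑Q' x s = Q x * QuadraticMap.polar ⇑Q' x f := by
    intro x hx
    obtain ⟨h1, h2'⟩ := hmem x hx
    have e1 := h (s + (-(Q x)) • f + x) (by
      simp only [q_add, q_smul, hs, hf, b_add_left, b_smul_left, b_smul_right, hsf, b_comm s x, b_comm f x,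
        h1, h2']
      ring)
    have e2 := h ((-1 : F) • s + Q x • f + x) (by
      simp only [q_add, q_smul, hs, hf, b_add_left, b_smul_left, b_smul_right, hsf, b_comm s x, b_comm f x,
        h1, h2']
      ring)
    simp only [q_add, q_smul, h s hs, h f hf, b_add_left, b_smul_left, b_smul_right,
      b_comm s x, b_comm f x, ← hc] at e1 e2
    refine ⟨mul_left_cancel₀ h2 ?_, mul_left_cancel₀ h2 ?_⟩
    · linear_combination e1 + e2
    · linear_combination e1 - e2
  -- an anisotropic orthogonal basis of `X`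
  obtain ⟨x, hx, hxq⟩ : ∃ x ∈ X, Q x ≠ 0 := by
    by_contra hall
    push Not at hall
    obtain ⟨x, hx, hx0⟩ := Submodule.exists_mem_ne_zero_of_ne_bot (p := X) fun e => by
      rw [e, finrank_bot] at hXd; omega
    obtain ⟨y, -, hxy⟩ := exists_orth_one hB (W := ⊥) (x := x) (by simpa using hx0)
    obtain ⟨h1, h2'⟩ := hmem x hx
    have hy' : y - B y f • s - B y s • f ∈ X := hmem' _
      (by simp only [b_sub_left, b_smul_left, b_self_zero hs, hfs]; ring)
      (by simp only [b_sub_left, b_smul_left, b_self_zero hf, hsf]; ring)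
    have := hall _ (X.add_mem hx hy')
    rw [q_add, hall _ hx, hall _ hy', zero_add, zero_add, b_sub_right, b_sub_right, b_smul_right, b_smul_right,
      h1, h2', hxy, mul_zero, sub_zero, mul_zero, sub_zero] at this
    exact one_ne_zero this
  obtain ⟨y, hy, hxy, hyq⟩ : ∃ y, y ∈ X ∧ B x y = 0 ∧ Q y ≠ 0 := by
    by_contra hall
    push Not at hall
    set T := Submodule.span F (Set.range ![s, f, x]) with hT
    have hTd : Module.finrank F T ≤ 3 :=
      (finrank_range_le_card (R := F) ![s, f, x]).trans_eq (Fintype.card_fin 3)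
    have hsum := finrank_orth hB T
    rw [Module.finrank_fin_fun] at hsum
    obtain ⟨y, hy, hy0⟩ := Submodule.exists_mem_ne_zero_of_ne_bot (p := orth Q T) fun e => by
      rw [e, finrank_bot] at hsum; omega
    have hys := mem_orth.1 hy s (Submodule.subset_span ⟨0, rfl⟩)
    have hyf := mem_orth.1 hy f (Submodule.subset_span ⟨1, rfl⟩)
    have hyx := mem_orth.1 hy x (Submodule.subset_span ⟨2, rfl⟩)
    have hyX : y ∈ X := hmem' y (by rw [b_comm]; exact hys) (by rw [b_comm]; exact hyf)
    have hyq := hall y hyX hyx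
    -- `y` would be in the radical
    have hy2 : y ∈ T := by
      have hTd' : 3 ≤ Module.finrank F T := by
        have hli : LinearIndependent F ![s, f, x] := by
          rw [Fintype.linearIndependent_iff]
          intro d hd
          rw [Fin.sum_univ_three] at hd
          simp only [Matrix.cons_val_zero, Matrix.cons_val_one, Matrix.cons_val] at hd
          obtain ⟨h1, h2'⟩ := hmem x hx
          have hd1 : d 1 = 0 := by
            have := congrArg (fun v => B s v) hd
            simpa [b_add_right, b_smul_right, b_self_zero hs, hsf, b_comm s x, h1, b_zero_right] using this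
          have hd0 : d 0 = 0 := by
            have := congrArg (fun v => B f v) hd
            simpa [b_add_right, b_smul_right, b_self_zero hf, hfs, b_comm f x, h2', b_zero_right] using this
          have hd2 : d 2 = 0 := by
            rw [hd0, hd1, zero_smul, zero_smul, zero_add, zero_add, smul_eq_zero] at hd
            exact hd.resolve_right fun e => hxq (by rw [e, QuadraticMap.map_zero])
          intro i
          fin_cases i
          exacts [hd0, hd1, hd2]
        rw [hT, finrank_span_eq_card hli, Fintype.card_fin]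
      by_contra hyT
      refine hy0 (hB y fun v => ?_)
      have htop : T ⊔ Submodule.span F {y} = ⊤ := by
        refine Submodule.eq_top_of_finrank_eq ?_
        have h5 := Submodule.finrank_lt_finrank_of_lt (show T < T ⊔ Submodule.span F {y} from
          lt_of_le_not_ge le_sup_left fun hge => hyT (hge (Submodule.mem_sup_right (Submodule.mem_span_singleton_self y))))
        have h6 := Submodule.finrank_le (T ⊔ Submodule.span F {y})
        rw [Module.finrank_fin_fun] at h6 ⊢
        omega
      obtain ⟨t, ht, z, hz, rfl⟩ := Submodule.mem_sup.1 (htop ▸ Submodule.mem_top : v ∈ T ⊔ Submodule.span F {y})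
      obtain ⟨d, rfl⟩ := Submodule.mem_span_singleton.1 hz
      rw [b_add_right, b_smul_right, b_self_zero hyq, mul_zero, add_zero, b_comm]
      exact mem_orth.1 hy t ht
    obtain ⟨d, hd⟩ := (Submodule.mem_span_range_iff_exists_fun F).1 hy2
    rw [Fin.sum_univ_three] at hd
    simp only [Matrix.cons_val_zero, Matrix.cons_val_one, Matrix.cons_val] at hd
    obtain ⟨h1, h2'⟩ := hmem x hx
    rw [← hd] at hys hyf hyx
    simp only [b_add_right, b_smul_right, b_self_zero hs, b_self_zero hf, hsf, hfs, b_comm s x, b_comm f x,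
      h1, h2', b_self, mul_zero, mul_one, add_zero, zero_add] at hys hyf hyx
    refine hy0 ?_
    rw [← hd, hys, hyf, (mul_eq_zero.1 hyx).resolve_right (mul_ne_zero h2 hxq)]
    simp
  obtain ⟨hx1, hx2⟩ := hval x hx
  obtain ⟨hy1, hy2⟩ := hval y hy
  have e3 := (hval _ (X.add_mem hx hy)).2
  have e4 := (hval _ (X.sub_mem hx hy)).2
  have e5 := (hval _ (X.add_mem hx hy)).1
  rw [q_add, hxy, b_add_left, b_add_left, hx2, hy2] at e3
  rw [q_sub, hxy, b_sub_left, b_sub_left, hx2, hy2] at e4
  have g1 : QuadraticMap.polar ⇑Q' x f = 0 := by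
    refine (mul_eq_zero.1 (show (2 * Q y) * QuadraticMap.polar ⇑Q' x f = 0 from ?_)).resolve_left
      (mul_ne_zero h2 hyq)
    linear_combination -e3 - e4
  have g2 : QuadraticMap.polar ⇑Q' y f = 0 := by
    refine (mul_eq_zero.1 (show (2 * Q x) * QuadraticMap.polar ⇑Q' y f = 0 from ?_)).resolve_left
      (mul_ne_zero h2 hxq)
    linear_combination -e3 + e4
  rw [g1, mul_zero] at hx2
  rw [g2, mul_zero] at hy2
  rw [q_add, q_add, hx1, hy1, hxy] at e5
  have g3 : QuadraticMap.polar ⇑Q' x y = 0 := by linear_combination e5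
  obtain ⟨h1x, h2x⟩ := hmem x hx
  obtain ⟨h1y, h2y⟩ := hmem y hy
  have hli : LinearIndependent F ![s, f, x, y] := by
    rw [Fintype.linearIndependent_iff]
    intro d hd
    rw [Fin.sum_univ_four] at hd
    simp only [Matrix.cons_val_zero, Matrix.cons_val_one, Matrix.cons_val] at hd
    have q0 := congrArg (fun v => B f v) hd
    have q1 := congrArg (fun v => B s v) hd
    have q2 := congrArg (fun v => B x v) hd
    have q3 := congrArg (fun v => B y v) hd
    simp only [b_add_right, b_smul_right, b_self_zero hs, b_self_zero hf, hsf, hfs, b_comm f x, b_comm f y,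
      b_comm s x, b_comm s y, h1x, h2x, h1y, h2y, hxy, b_comm y x, b_self, b_zero_right, mul_zero,
      mul_one, add_zero, zero_add] at q0 q1 q2 q3
    intro i
    fin_cases i
    exacts [q0, q1, (mul_eq_zero.1 q2).resolve_right (mul_ne_zero h2 hxq),
      (mul_eq_zero.1 q3).resolve_right (mul_ne_zero h2 hyq)]
  intro v
  have hv : v ∈ Submodule.span F (Set.range ![s, f, x, y]) := by
    rw [hli.span_eq_top_of_card_eq_finrank (by rw [Fintype.card_fin, Module.finrank_fin_fun])]
    trivial
  obtain ⟨d, rfl⟩ := (Submodule.mem_span_range_iff_exists_fun F).1 hv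
  rw [Fin.sum_univ_four]
  simp only [Matrix.cons_val_zero, Matrix.cons_val_one, Matrix.cons_val, q_add, q_smul, b_add_left,
    b_smul_left, b_smul_right, hs, hf, h s hs, h f hf, hsf, ← hc, b_comm s x, b_comm s y, b_comm f x,
    b_comm f y, h1x, h2x, h1y, h2y, hxy, hx1, hy1, hx2, hy2, g1, g2, g3]
  ring

variable (hK : ∀ g : SpecialLinearGroup (Fin 4) F, g ∈ qsim Q → g ∈ K)

include hK

theorem exists_siegelK {p q : V} (hp : Q p = 0) (hpq : B p q = 0) :
    ∃ h ∈ K, (∀ x, app h x = x + B x p • q - B x q • p - (Q q * B x p) • p) ∧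
      ∀ x y, B (app h x) (app h y) = B x y := by
  obtain ⟨h, hh, hs⟩ := exists_siegelSL (Q := Q) hp hpq
  refine ⟨h, hK h hs, hh, fun a b => ?_⟩
  have e : ∀ a, Q (app h a) = Q a := fun a => by
    rw [hh, ← siegelMap_apply, siegelMap_isometry hp hpq]
  unfold QuadraticMap.polar
  rw [← app_add, e, e, e]

theorem qsim_or_top : K = ⊤ ∨ (K : Set (SpecialLinearGroup (Fin 4) F)) ⊆ qsim Q := by
  classical
  by_cases hR : (K : Set (SpecialLinearGroup (Fin 4) F)) ⊆ qsim Q
  · exact Or.inr hR
  left
  obtain ⟨g, hg, hgs⟩ := Set.not_subset.1 hR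
  have hrep : ∀ θ : V →ₗ[F] F, ∃ z, ∀ x, B x z = θ x := by
    let L : V →ₗ[F] Module.Dual F V := QuadraticMap.polarBilin Q
    have hL : Function.Injective L := by
      rw [← LinearMap.ker_eq_bot, Submodule.eq_bot_iff]
      exact fun x hx => hB x fun y => LinearMap.congr_fun hx y
    intro θ
    obtain ⟨z, hz⟩ :=
      (LinearMap.injective_iff_surjective_of_finrank_eq_finrank Subspace.dual_finrank_eq.symm).1 hL θ
    exact ⟨z, fun x => by rw [b_comm]; exact LinearMap.congr_fun hz x⟩
  obtain ⟨p, hp, hgp⟩ : ∃ p, Q p = 0 ∧ Q (app g p) ≠ 0 := by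
    by_contra hc
    push Not at hc
    let gl : V →ₗ[F] V := Matrix.toLin' g.1
    have hgl : ∀ x, gl x = app g x := fun x => Matrix.toLin'_apply _ _
    obtain ⟨c, hcQ⟩ := prop_of_singular hB h2 (Q' := Q.comp gl)
      (fun x hx => by rw [QuadraticMap.comp_apply, hgl]; exact hc x hx)
    simp only [QuadraticMap.comp_apply, hgl] at hcQ
    have hc0 : c ≠ 0 := fun e => by
      have hall : ∀ z, Q z = 0 := fun z => by rw [← app_inv' g z, hcQ, e, zero_mul]
      have h1 : (Pi.single 0 1 : V) = 0 := hB _ fun y => by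
        unfold QuadraticMap.polar
        rw [hall, hall, hall, sub_zero, sub_zero]
      exact one_ne_zero (α := F) (by simpa using congrFun h1 0)
    exact hgs ⟨Units.mk0 c hc0, fun x => by rw [Units.val_mk0]; exact hcQ x⟩
  obtain ⟨u, hu⟩ : ∃ u, u = app g p := ⟨_, rfl⟩
  rw [← hu] at hgp
  have hu0 : u ≠ 0 := fun e => hgp (by rw [e, QuadraticMap.map_zero])
  have hp0 : p ≠ 0 := fun e => hu0 (by rw [hu, e]; exact mulVec_zero _)
  obtain ⟨Q', hQ'⟩ : ∃ Q' : QuadraticForm F V, Q' = Q.comp (Matrix.toLin' (g⁻¹).1) := ⟨_, rfl⟩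
  have hS1 : Sie K Q' u := by
    have h0 : Sie K Q p := fun a ha => by
      obtain ⟨k, hk, hkx, -⟩ := exists_siegelK hB h2 hK hp ha
      exact ⟨k, hk, hkx⟩
    rw [hQ', hu]
    exact h0.conj hg
  have hl : ∀ (s : SL') (x : V), Matrix.toLin' (s⁻¹).1 x = app s⁻¹ x := fun s x => Matrix.toLin'_apply _ _
  have hQ'u : Q' u = 0 := by rw [hQ', QuadraticMap.comp_apply, hl, hu, app_inv, hp]
  have hnd' : Nondeg Q' := fun x hx => by
    have h1 : app g⁻¹ x = 0 := hB _ fun y => by
      have := hx (app g y)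
      rwa [hQ', polar_comp, hl, hl, app_inv] at this
    rw [← app_inv' g x, h1]; exact mulVec_zero _
  obtain ⟨w, hw⟩ := hrep (QuadraticMap.polarBilin Q' u)
  have hw' : ∀ x, B x w = QuadraticMap.polar ⇑Q' x u := fun x => by rw [hw, b_comm x u]; rfl
  have huw : B u w = 0 := by rw [hw', b_self_zero hQ'u]
  have hwu : w ∉ Submodule.span F {u} := fun h => by
    obtain ⟨c, rfl⟩ := Submodule.mem_span_singleton.1 h
    rw [b_smul_right, b_self] at huw
    have hc : c = 0 := (mul_eq_zero.1 huw).resolve_right (mul_ne_zero h2 hgp)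
    refine hu0 (hnd' u fun y => ?_)
    rw [b_comm, ← hw', hc, zero_smul, b_zero_right]
  obtain ⟨p', hp', hup', hwp'⟩ := exists_singular_meet hB h2 hgp hwu
  have hp'0 : p' ≠ 0 := fun e => hwp' (by rw [e, b_zero_right])
  obtain ⟨q, huq, hp'q, hqq⟩ := exists_aniso_meet hB h2 hgp hp' hp'0 hup'
  obtain ⟨r, hr, hrx, hriso⟩ := exists_siegelK hB h2 hK hp' hp'q
  have hru : app r u = u := by rw [hrx, hup', huq]; module
  have hrw : w ∉ Submodule.span F {app r w} := fun h => by
    obtain ⟨c, hc⟩ := Submodule.mem_span_singleton.1 h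
    have hqp : B q p' = 0 := by rw [b_comm]; exact hp'q
    have h1 := congrArg (fun v => B v p') hc
    simp only [b_smul_left, hrx, b_add_left, b_sub_left, hqp, b_self_zero hp', mul_zero, add_zero,
      sub_zero] at h1
    have hc1 : c = 1 := mul_right_cancel₀ hwp' (by rw [one_mul]; exact h1)
    rw [hc1, one_smul, hrx] at hc
    have h3 := congrArg (fun v => B v q) hc
    simp only [b_add_left, b_sub_left, b_smul_left, b_comm p' q, hqp, b_self, mul_zero, sub_zero,
      add_eq_left, mul_eq_zero] at h3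
    rcases h3 with h3 | h3 | h3
    exacts [hwp' h3, h2 h3, hqq h3]
  obtain ⟨b, hb, hwb⟩ := exists_orth_one hB hrw
  have hS2 := hS1.conj hr
  rw [hru] at hS2
  have hri : app r⁻¹ u = u := by conv_lhs => rw [← hru, app_inv]
  have hbw'' : B b (app r w) = 0 := by
    rw [b_comm]; exact mem_orth.1 hb _ (Submodule.mem_span_singleton_self _)
  obtain ⟨θ, hθ0, hθu, j, hj, hjx⟩ := exists_transvection (K := K) h2
    (Q'' := Q'.comp (Matrix.toLin' (r⁻¹).1))
    (fun x hx => by
      have h1 : app r⁻¹ x = 0 := hnd' _ fun y => by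
        have := hx (app r y)
        rwa [polar_comp, hl, hl, app_inv] at this
      rw [← app_inv' r x, h1]; exact mulVec_zero _)
    hu0 hQ'u (by rw [QuadraticMap.comp_apply, hl, hri, hQ'u]) (b := b)
    (by rw [← hw', b_comm]; exact hwb)
    (by rw [polar_comp, hl, hl, hri, ← hw', ← hriso, app_inv']; exact hbw'')
    hS1 hS2
  -- the transvections with centre `u`
  let C : AddSubgroup V :=
    { carrier := {z | B u z = 0 ∧ ∃ t ∈ K, IsT Q t u z}
      zero_mem' := ⟨b_zero_right u, 1, K.one_mem, fun x => by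
        rw [app_one, b_zero_right, zero_smul, add_zero]⟩
      add_mem' := by
        rintro z z' ⟨hz, t, ht, htx⟩ ⟨hz', t', ht', htx'⟩
        refine ⟨by rw [b_add_right, hz, hz', add_zero], t' * t, K.mul_mem ht' ht, fun x => ?_⟩
        rw [app_mul, htx, htx', b_add_left, b_smul_left, hz', b_add_right]
        module
      neg_mem' := by
        rintro z ⟨hz, t, ht, htx⟩
        refine ⟨by rw [← neg_one_smul F z, b_smul_right, hz, mul_zero], t⁻¹, K.inv_mem ht, fun x => ?_⟩
        obtain ⟨y, rfl⟩ : ∃ y, x = app t y := ⟨app t⁻¹ x, (app_inv' t x).symm⟩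
        rw [app_inv, htx, ← neg_one_smul F z, b_smul_right, b_add_left, b_smul_left, hz]
        module }
  obtain ⟨z₀, hz₀⟩ := hrep θ
  have hz₀C : z₀ ∈ C := ⟨by rw [hz₀, hθu], j, hj, fun x => by rw [hjx, hz₀]⟩
  have hz₀0 : z₀ ≠ 0 := fun e => hθ0 (LinearMap.ext fun x => by
    rw [← hz₀, e, b_zero_right, LinearMap.zero_apply])
  have Cmove : ∀ h ∈ K, (∀ x y, B (app h x) (app h y) = B x y) → app h u = u →
      ∀ z ∈ C, app h z ∈ C := by
    rintro h hh hiso hfix z ⟨hz, t, ht, htx⟩
    refine ⟨by rw [← hfix, hiso, hz], h * t * h⁻¹, K.mul_mem (K.mul_mem hh ht) (K.inv_mem hh), fun x => ?_⟩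
    rw [app_mul, app_mul, htx, app_add, app_smul, app_inv', hfix, ← hiso, app_inv']
  have move : ∀ z ∈ C, ∀ s q, Q s = 0 → B u s = 0 → B u q = 0 → B s q = 0 →
      B z s • q - B z q • s - (Q q * B z s) • s ∈ C := by
    intro z hz s q hs hus huq hsq
    obtain ⟨h, hh, hhx, hiso⟩ := exists_siegelK hB h2 hK hs hsq
    have := C.sub_mem (Cmove h hh hiso (by rw [hhx, hus, huq]; module) z hz) hz
    rw [hhx] at this
    convert this using 1
    module
  have full : ∀ z ∈ C, ∀ s, Q s = 0 → B u s = 0 → B z s ≠ 0 →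
      (∀ l : F, l • s ∈ C) ∧ ∀ q, B u q = 0 → B s q = 0 → q ∈ C := by
    intro z hz s hs hus hzs
    obtain ⟨q₀, huq₀, hsq₀, hq₀⟩ := exists_aniso_meet hB h2 hgp hs
      (fun e => hzs (by rw [e, b_zero_right])) hus
    have hsq : ∀ q, B u q = 0 → B s q = 0 → (2 * Q q * B z s) • s ∈ C := by
      intro q huq hsq
      have e1 := move z hz s q hs hus huq hsq
      have e2 := move z hz s ((-1 : F) • q) hs hus (by rw [b_smul_right, huq, mul_zero])
        (by rw [b_smul_right, hsq, mul_zero])
      have := C.neg_mem (C.add_mem e1 e2)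
      rw [q_smul, b_smul_right] at this
      convert this using 1
      module
    have hall : ∀ l : F, l • s ∈ C := by
      intro l
      obtain ⟨k, hk⟩ : ∃ k, k = l / (2 * Q q₀ * B z s) := ⟨_, rfl⟩
      have e1 := hsq (((k + 1) / 2) • q₀) (by rw [b_smul_right, huq₀, mul_zero])
        (by rw [b_smul_right, hsq₀, mul_zero])
      have e2 := hsq (((k - 1) / 2) • q₀) (by rw [b_smul_right, huq₀, mul_zero])
        (by rw [b_smul_right, hsq₀, mul_zero])
      have := C.sub_mem e1 e2
      rw [← sub_smul, q_smul, q_smul] at this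
      convert this using 2
      rw [hk]; field_simp; ring
    refine ⟨hall, fun q huq hsq => ?_⟩
    have e1 := C.add_mem (move z hz s ((B z s)⁻¹ • q) hs hus (by rw [b_smul_right, huq, mul_zero])
      (by rw [b_smul_right, hsq, mul_zero]))
      (hall (B z ((B z s)⁻¹ • q) + Q ((B z s)⁻¹ • q) * B z s))
    convert e1 using 1
    rw [smul_smul, mul_inv_cancel₀ hzs, one_smul]
    module
  have hCall : ∀ z, B u z = 0 → z ∈ C := by
    have hz₀u : z₀ ∉ Submodule.span F {u} := fun h => by
      obtain ⟨c, rfl⟩ := Submodule.mem_span_singleton.1 h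
      have := hz₀C.1
      rw [b_smul_right, b_self] at this
      exact hz₀0 (by rw [(mul_eq_zero.1 this).resolve_right (mul_ne_zero h2 hgp), zero_smul])
    obtain ⟨s, hs, hus, hzs⟩ := exists_singular_meet hB h2 hgp hz₀u
    obtain ⟨hFs, hperp⟩ := full z₀ hz₀C s hs hus hzs
    have hs0 : s ≠ 0 := fun e => hzs (by rw [e, b_zero_right])
    have hsu : s ∉ Submodule.span F {u} := fun h => by
      obtain ⟨c, rfl⟩ := Submodule.mem_span_singleton.1 h
      rw [q_smul] at hs
      exact hs0 (by rw [mul_self_eq_zero.1 ((mul_eq_zero.1 hs).resolve_right hgp), zero_smul])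
    obtain ⟨s', hs', hus', hss'⟩ := exists_singular_meet hB h2 hgp hsu
    obtain ⟨hFs', -⟩ := full s (by simpa using hFs 1) s' hs' hus' hss'
    intro z hz
    obtain ⟨l, hl⟩ : ∃ l, l = B s z / B s s' := ⟨_, rfl⟩
    have := C.add_mem (hperp (z - l • s') (by rw [b_sub_right, b_smul_right, hz, hus', mul_zero, sub_zero])
      (by rw [b_sub_right, b_smul_right, hl, div_mul_cancel₀ _ hss', sub_self])) (hFs' l)
    rwa [sub_add_cancel] at this
  have huc : u ∈ centres K := by
    intro φ hφ
    obtain ⟨z, hz⟩ := hrep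
      { toFun := fun x => φ ⬝ᵥ x
        map_add' := fun x y => dotProduct_add _ _ _
        map_smul' := fun c x => by simp [dotProduct_smul] }
    obtain ⟨-, t, ht, htx⟩ := hCall z ((hz u).trans hφ)
    have : t = tv u φ hφ := ext_app fun x => by rw [htx, app_tv, hz]; rfl
    rwa [← this]
  refine eq_top_of_centres (by norm_num) (eq_top_iff.2 fun v _ => ?_)
  obtain ⟨s, hs, hus⟩ : ∃ s, Q s = 0 ∧ B u s ≠ 0 := by
    obtain ⟨e, -, hue⟩ := exists_orth_one hB (W := ⊥) (x := u) (by simpa using hu0)
    obtain ⟨t, hut, htt, hts⟩ : ∃ t, B u t = 0 ∧ Q t = 0 ∧ t ≠ 0 := by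
      set U := orth Q (Submodule.span F {u}) with hU
      have hd : 3 ≤ Module.finrank F U := by
        have := finrank_orth hB (Submodule.span F {u})
        rw [finrank_span_singleton hu0, Module.finrank_fin_fun, ← hU] at this
        omega
      obtain ⟨t, ht, ht0, htq⟩ := exists_singular (Q := Q) (U := U) hd
      exact ⟨t, mem_orth.1 ht u (Submodule.mem_span_singleton_self u), htq, ht0⟩
    obtain ⟨f, -, htf⟩ := exists_orth_one hB (W := ⊥) (x := t) (by simpa using hts)
    obtain ⟨k, htk, hk⟩ : ∃ k, B t k ≠ 0 ∧ B u k ≠ 0 := by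
      by_cases h1 : B u f = 0
      · by_cases h3 : B t e = 0
        · exact ⟨e + f, by rw [b_add_right, h3, htf, zero_add]; exact one_ne_zero,
            by rw [b_add_right, hue, h1, add_zero]; exact one_ne_zero⟩
        · exact ⟨e, h3, by rw [hue]; exact one_ne_zero⟩
      · exact ⟨f, by rw [htf]; exact one_ne_zero, h1⟩
    refine ⟨k - (Q k / B t k) • t, ?_, by rw [b_sub_right, b_smul_right, hut, mul_zero, sub_zero]; exact hk⟩
    rw [q_sub, q_smul, htt, b_smul_right, b_comm k t, div_mul_cancel₀ _ htk]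
    ring
  have hmove : ∀ q, B s q = 0 → B u s • q - B u q • s - (Q q * B u s) • s ∈ centres K := by
    intro q hsq
    obtain ⟨h, hh, hhx, -⟩ := exists_siegelK hB h2 hK hs hsq
    have := (centres K).sub_mem (app_mem_centres hh huc) huc
    rw [hhx] at this
    convert this using 1
    module
  have hsc : s ∈ centres K := by
    obtain ⟨q, hsq, hq⟩ : ∃ q, B s q = 0 ∧ Q q ≠ 0 := by
      by_contra hall
      push Not at hall
      have hq : ∀ v ∈ orth Q (Submodule.span F {s}), Q v = 0 := fun v hv =>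
        hall v (mem_orth.1 hv s (Submodule.mem_span_singleton_self s))
      have hle : orth Q (Submodule.span F {s}) ≤ Submodule.span F {s} := by
        intro x hx
        rw [← orth_orth hB (Submodule.span F {s})]
        refine mem_orth.2 fun v hv => ?_
        have := hq (v + x) (Submodule.add_mem _ hv hx)
        rwa [q_add, hq v hv, hq x hx, zero_add, zero_add] at this
      have h5 := Submodule.finrank_mono hle
      have h6 := finrank_orth hB (Submodule.span F {s})
      rw [finrank_span_singleton (fun e => hus (by rw [e, b_zero_right])), Module.finrank_fin_fun] at h6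
      rw [finrank_span_singleton (fun e => hus (by rw [e, b_zero_right]))] at h5
      omega
    have := (centres K).smul_mem (-(2 * Q q * B u s))⁻¹ ((centres K).add_mem (hmove q hsq)
      (hmove ((-1 : F) • q) (by rw [b_smul_right, hsq, mul_zero])))
    rw [b_smul_right, q_smul, show B u s • q - B u q • s - (Q q * B u s) • s +
      (B u s • (-1 : F) • q - (-1 * B u q) • s - (-1 * -1 * Q q * B u s) • s) =
      (-(2 * Q q * B u s)) • s by module, smul_smul,
      inv_mul_cancel₀ (neg_ne_zero.2 (mul_ne_zero (mul_ne_zero h2 hq) hus)), one_smul] at this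
    exact this
  obtain ⟨l, hl⟩ : ∃ l, l = B s v / B u s := ⟨_, rfl⟩
  have hsv : B s (v - l • u) = 0 := by
    rw [b_sub_right, b_smul_right, b_comm s u, hl, div_mul_cancel₀ _ hus, sub_self]
  have h4 := (centres K).smul_mem (B u s)⁻¹ ((centres K).add_mem (hmove _ hsv)
    ((centres K).smul_mem (B u (v - l • u) + Q (v - l • u) * B u s) hsc))
  rw [show B u s • (v - l • u) - B u (v - l • u) • s - (Q (v - l • u) * B u s) • s +
    (B u (v - l • u) + Q (v - l • u) * B u s) • s = B u s • (v - l • u) by module, smul_smul,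
    inv_mul_cancel₀ hus, one_smul] at h4
  simpa using (centres K).add_mem h4 ((centres K).smul_mem l huc)

omit hK in
theorem exists_notMem_qsim : ∃ g : SpecialLinearGroup (Fin 4) F, g ∉ qsim Q := by
  obtain ⟨s, -, hs0, hs⟩ := exists_singular (Q := Q) (U := (⊤ : Submodule F V))
    (by rw [finrank_top, Module.finrank_fin_fun]; norm_num)
  obtain ⟨w, -, hsw⟩ := exists_orth_one hB (W := ⊥) (x := s) (by simpa using hs0)
  obtain ⟨q, hsq, hwq, hq0⟩ : ∃ q, B s q = 0 ∧ B w q = 0 ∧ q ≠ 0 := by
    have h5 := finrank_orth hB (Submodule.span F (Set.range ![s, w]))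
    have h6 : Module.finrank F (Submodule.span F (Set.range ![s, w])) ≤ 2 :=
      (finrank_range_le_card (R := F) ![s, w]).trans_eq (Fintype.card_fin 2)
    rw [Module.finrank_fin_fun] at h5
    obtain ⟨q, hq, hq0⟩ := Submodule.exists_mem_ne_zero_of_ne_bot
      (p := orth Q (Submodule.span F (Set.range ![s, w]))) fun e => by rw [e, finrank_bot] at h5; omega
    exact ⟨q, mem_orth.1 hq s (Submodule.subset_span ⟨0, rfl⟩),
      mem_orth.1 hq w (Submodule.subset_span ⟨1, rfl⟩), hq0⟩
  obtain ⟨g, hg⟩ := exists_isT (Q := Q) (b_self_zero hs)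
  refine ⟨g, fun ⟨c, hc⟩ => ?_⟩
  have h3 : ∀ x, Q x + B x s * B x s = (c : F) * Q x := fun x => by
    have := hc x
    rw [hg, q_add, q_smul, hs, b_smul_right] at this
    linear_combination this
  have hfix : ∀ x, B x s = 0 → ((c : F) - 1) * Q x = 0 := fun x hx => by
    have := h3 x
    rw [hx] at this
    linear_combination -this
  have hc1 : (c : F) = 1 := by
    by_contra hne
    have hq : ∀ x, B x s = 0 → Q x = 0 := fun x hx =>
      (mul_eq_zero.1 (hfix x hx)).resolve_left (sub_ne_zero.2 hne)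
    have hqz : ∀ y, B q y = 0 := fun y => by
      obtain ⟨t, y', hy', rfl⟩ : ∃ t : F, ∃ y', B y' s = 0 ∧ y = t • w + y' :=
        ⟨B y s, y - B y s • w, by rw [b_sub_left, b_smul_left, b_comm w s, hsw]; ring, by abel⟩
      have hqs : B q s = 0 := by rw [b_comm]; exact hsq
      have h1 := hq (q + y') (by rw [b_add_left, hqs, hy', add_zero])
      rw [q_add, hq q hqs, hq y' hy', zero_add, zero_add] at h1
      rw [b_add_right, b_smul_right, h1, b_comm q w, hwq, mul_zero, add_zero]
    exact hq0 (hB q hqz)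
  have := h3 w
  rw [b_comm w s, hsw, hc1] at this
  exact one_ne_zero (α := F) (by linear_combination this)

omit hK in
theorem isMaximalIn_qsim {M : Subgroup (GL (Fin 4) F)}
    (hM : ∀ g : SpecialLinearGroup (Fin 4) F, (g : GL (Fin 4) F) ∈ M ↔ g ∈ qsim Q) :
    Cfsg.Geo.IsMaximalIn (Cfsg.Geo.specialLinear (Fin 4) F)
      (M ⊓ Cfsg.Geo.specialLinear (Fin 4) F) := by
  refine ⟨lt_of_le_not_ge inf_le_right fun h => ?_, fun N hN hN' => ?_⟩
  · obtain ⟨g, hg⟩ := exists_notMem_qsim hB h2
    exact hg ((hM g).1 (h (mem_specialLinear.2 ⟨g, rfl⟩)).1)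
  rcases qsim_or_top (K := N.comap SpecialLinearGroup.toGL) hB h2 (fun g hg =>
      hN ⟨(hM g).2 hg, mem_specialLinear.2 ⟨g, rfl⟩⟩) with h | h
  · refine Or.inr (le_antisymm hN' fun g hg => ?_)
    obtain ⟨s, rfl⟩ := mem_specialLinear.1 hg
    have : s ∈ N.comap SpecialLinearGroup.toGL := h ▸ Subgroup.mem_top s
    exact this
  · refine Or.inl (le_antisymm (fun g hg => ?_) hN)
    obtain ⟨s, rfl⟩ := mem_specialLinear.1 (hN' hg)
    exact ⟨(hM s).2 (h hg), mem_specialLinear.2 ⟨s, rfl⟩⟩

end Main

/-- Orthogonal similarity groups are maximal in dimension four. -/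
theorem quad (hodd : Odd (Nat.card F)) (Q₀ : (Fin 4 → F) → F)
    (hQ : Cfsg.Geo.IsNondegenerateQuadraticForm Q₀) :
    Cfsg.Geo.IsMaximalIn (Cfsg.Geo.specialLinear (Fin 4) F)
      (Cfsg.Geo.quadSimilarityGroup Q₀ ⊓ Cfsg.Geo.specialLinear (Fin 4) F) := by
  classical
  let _ := Fintype.ofFinite F
  rw [Nat.card_eq_fintype_card] at hodd
  have h2 : (2 : F) ≠ 0 := Ring.two_ne_zero fun e =>
    Nat.not_even_iff_odd.2 hodd (Nat.even_iff.2 (FiniteField.even_card_of_char_two e))
  obtain ⟨Q', rfl, hB⟩ := CfsgLib.Orth.exists_quadForm hQ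
  exact isMaximalIn_qsim hB h2 fun g => Iff.rfl

end CfsgLib.Classical.SLFour.Quad
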